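import Groth.Agent.FaltingsAnnLib.Translate
import Groth.Agent.DualCxLib.Crit
import Groth.Agent.DualCxLib.LocBound

/-!
# Finiteness of cohomology with supports
-/

set_option autoImplicit false
set_option linter.style.haveILetI false
set_option backward.isDefEq.respectTransparency false

universe u

open CategoryTheory
attribute [local instance] HasDerivedCategory.standard

noncomputable section

namespace Groth.Agent.FaltingsAnnLib

open DualCxLib (InjRep HK)

variable {A : Type u} [CommRing A] (Y : DRing.Cx A) (T : Set (PrimeSpectrum A)) (M : Type u) [AddCommGroup M]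
  [Module A M]

/-- Composition with the differential. -/
abbrev DY (p q : ℤ) : (M →ₗ[A] Y.X p) →ₗ[A] (M →ₗ[A] Y.X q) :=
  LinearMap.llcomp A M (Y.X p) (Y.X q) (Y.d p q).hom

/-- Maps with values supported in `T`. -/
def MG (i : ℤ) : Submodule A (M →ₗ[A] Y.X i) where
  carrier := {f | ∀ m, f m ∈ gamma T (Y.X i)}
  zero_mem' _ := zero_mem _
  add_mem' hf hg m := add_mem (hf m) (hg m)
  smul_mem' c _ hf m := Submodule.smul_mem _ c (hf m)

/-- Cocycles of `Hom(M, Γ_T Y)`. -/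
abbrev ZG (i : ℤ) : Submodule A (M →ₗ[A] Y.X i) := MG Y T M i ⊓ LinearMap.ker (DY Y M i (i + 1))

/-- Coboundaries of `Hom(M, Γ_T Y)`. -/
abbrev BG (i : ℤ) : Submodule A (ZG Y T M i) :=
  ((MG Y T M (i - 1)).map (DY Y M (i - 1) i)).comap (ZG Y T M i).subtype

/-- Cohomology of `Hom(M, Γ_T Y)`. -/
abbrev QG (i : ℤ) : Type u := ZG Y T M i ⧸ BG Y T M i

variable {Y T M}

theorem mem_ZG {i : ℤ} {f : M →ₗ[A] Y.X i} :
    f ∈ ZG Y T M i ↔ (∀ m, f m ∈ gamma T (Y.X i)) ∧ ∀ m, Y.d i (i + 1) (f m) = 0 := by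
  simp only [ZG, DY, Submodule.mem_inf, LinearMap.mem_ker, LinearMap.ext_iff]
  rfl

/-- Evaluation of a cocycle at an element. -/
def evAt (m : M) (i : ℤ) : ZG Y T M i →ₗ[A] ZT Y T i where
  toFun f := ⟨f.1 m, f.2.1 m, (mem_ZG.1 f.2).2 m⟩
  map_add' _ _ := rfl
  map_smul' _ _ := rfl

theorem BG_le_ker_evAt (m : M) (i : ℤ) : BG Y T M i ≤ LinearMap.ker ((BT Y T i).mkQ ∘ₗ evAt m i) := by
  rintro f ⟨g, hg, hgf⟩
  exact (Submodule.Quotient.mk_eq_zero _).2 ⟨g m, hg m, LinearMap.congr_fun hgf m⟩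

theorem dd_zero (a b c : ℤ) (y : Y.X a) : Y.d b c (Y.d a b y) = 0 := by
  show (Y.d a b ≫ Y.d b c) y = 0
  rw [Y.d_comp_d]
  rfl

theorem mem_ker_d_of_eq {a b b' : ℤ} (h : b = b') {y : Y.X a} (hy : Y.d a b y = 0) : Y.d a b' y = 0 := h ▸ hy

variable [IsNoetherianRing A]

theorem finite_range_of_ker_le {R : Type*} [AddCommGroup R] [Module A R] {X : Type*} [AddCommGroup X] [Module A X]
    {W : Type*} [AddCommGroup W] [Module A W] [Module.Finite A W] (f : R →ₗ[A] X) (g : R →ₗ[A] W)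
    (h : LinearMap.ker g ≤ LinearMap.ker f) : (LinearMap.range f).FG := by
  haveI : Module.Finite A (R ⧸ LinearMap.ker g) := Module.Finite.equiv g.quotKerEquivRange.symm
  rw [← Submodule.range_liftQ (LinearMap.ker g) f h]
  exact Module.Finite.iff_fg.1 (inferInstance : Module.Finite A (LinearMap.range ((LinearMap.ker g).liftQ f h)))

/-- Extension of maps with values supported in `T`. -/
theorem exists_extension {X N N' : Type u} [AddCommGroup X] [Module A X] [AddCommGroup N] [Module A N] [AddCommGroup N']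
    [Module A N'] [Module.Injective A X] (ι : N →ₗ[A] N') (hι : Function.Injective ι) (f : N →ₗ[A] X)
    (hf : ∀ z, f z ∈ gamma T X) : ∃ g : N' →ₗ[A] X, (∀ z, g z ∈ gamma T X) ∧ ∀ z, g (ι z) = f z := by
  haveI := injective_gamma (T := T) X
  obtain ⟨g, hg⟩ := (Module.Baer.of_injective ‹Module.Injective A (gamma T X)›).extension_property ι hι
    (f.codRestrict _ hf)
  exact ⟨(gamma T X).subtype ∘ₗ g, fun z => (g z).2, fun z => congrArg Subtype.val (LinearMap.congr_fun hg z)⟩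

variable (hinj : ∀ i, Module.Injective A (Y.X i))

include hinj in
/-- Removing the obstruction on the relations and descending. -/
theorem exists_descend {F : Type u} [AddCommGroup F] [Module A F] {π : F →ₗ[A] M} (hπ : Function.Surjective π)
    (j : ℤ) (ψ : F →ₗ[A] Y.X (j - 1)) (hψ : ∀ z, ψ z ∈ gamma T (Y.X (j - 1)))
    (χ : LinearMap.ker π →ₗ[A] Y.X (j - 1 - 1)) (hχ : ∀ z, χ z ∈ gamma T (Y.X (j - 1 - 1)))
    (hχd : ∀ z : LinearMap.ker π, Y.d (j - 1 - 1) (j - 1) (χ z) = ψ z) :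
    ∃ θ : M →ₗ[A] Y.X (j - 1), (∀ m, θ m ∈ gamma T (Y.X (j - 1))) ∧
      ∀ z, Y.d (j - 1) j (θ (π z)) = Y.d (j - 1) j (ψ z) := by
  haveI := hinj (j - 1 - 1)
  obtain ⟨χ', hχ', hχe⟩ := exists_extension (LinearMap.ker π).subtype Subtype.val_injective χ hχ
  let ψ₁ : F →ₗ[A] Y.X (j - 1) := ψ - (Y.d (j - 1 - 1) (j - 1)).hom ∘ₗ χ'
  have hψ₁ : LinearMap.ker π ≤ LinearMap.ker ψ₁ := fun z hz => LinearMap.mem_ker.2 (by
    show ψ z - Y.d (j - 1 - 1) (j - 1) (χ' z) = 0
    rw [show χ' z = χ ⟨z, hz⟩ from hχe ⟨z, hz⟩]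
    exact sub_eq_zero.2 (hχd ⟨z, hz⟩).symm)
  have happ : ∀ z, ((LinearMap.ker π).liftQ ψ₁ hψ₁ ∘ₗ (π.quotKerEquivOfSurjective hπ).symm.toLinearMap) (π z) =
      ψ z - Y.d (j - 1 - 1) (j - 1) (χ' z) := fun z => by
    rw [LinearMap.comp_apply, LinearEquiv.coe_coe, show (π.quotKerEquivOfSurjective hπ).symm (π z) =
      Submodule.Quotient.mk z from (LinearEquiv.symm_apply_eq _).2 rfl, Submodule.liftQ_apply]
    rfl
  refine ⟨_, fun m => ?_, fun z => by rw [happ z, map_sub, dd_zero, sub_zero]⟩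
  obtain ⟨z, rfl⟩ := hπ m
  rw [happ z]
  exact sub_mem (hψ z) (map_mem_gamma _ (hχ' z))

variable {lo : ℤ} (hlo : ∀ i < lo, ∀ y : Y.X i, y = 0)

include hinj hlo in
/-- Cohomology of `Hom(M, Γ_T Y)` is finite when that of `Γ_T Y` is. -/
theorem finite_QG : ∀ (k : ℕ) (j : ℤ), j < lo + k → (∀ l ≤ j, Module.Finite A (HYT Y T l)) →
    ∀ (M : Type u) [AddCommGroup M] [Module A M] [Module.Finite A M], Module.Finite A (QG Y T M j) := by
  intro k
  induction k with
  | zero =>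
    intro j hj _ M _ _ _
    haveI : Subsingleton (ZG Y T M j) := ⟨fun f g => Subtype.ext (LinearMap.ext fun m => by
      rw [hlo j (by simpa using hj) (f.1 m), hlo j (by simpa using hj) (g.1 m)])⟩
    haveI : Subsingleton (QG Y T M j) := (Submodule.Quotient.mk_surjective _).subsingleton
    exact Module.Finite.of_surjective (0 : A →ₗ[A] _) fun _ => ⟨0, Subsingleton.elim _ _⟩
  | succ k ih =>
    intro j hj hfin M _ _ _
    obtain ⟨n, π, hπ⟩ := Module.Finite.exists_fin' A M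
    let K1 := LinearMap.ker π
    haveI hW : Module.Finite A (QG Y T K1 (j - 1)) :=
      ih (j - 1) (by push_cast at hj; omega) (fun l hl => hfin l (by omega)) K1
    haveI := hfin j le_rfl
    let cls : QG Y T M j →ₗ[A] (Fin n → HYT Y T j) := LinearMap.pi fun m =>
      (BG Y T M j).liftQ _ (BG_le_ker_evAt (π (Pi.single m 1)) j)
    let R : Submodule A (ZG Y T M j × MG Y T (Fin n → A) (j - 1)) :=
      LinearMap.ker ((LinearMap.lcomp A (Y.X j) π) ∘ₗ (ZG Y T M j).subtype ∘ₗ LinearMap.fst A _ _ -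
        DY Y (Fin n → A) (j - 1) j ∘ₗ (MG Y T (Fin n → A) (j - 1)).subtype ∘ₗ LinearMap.snd A _ _)
    have hR : ∀ r : R, ∀ z, r.1.1.1 (π z) = Y.d (j - 1) j (r.1.2.1 z) := fun r z =>
      sub_eq_zero.1 (LinearMap.congr_fun r.2 z)
    let obs : R →ₗ[A] QG Y T K1 (j - 1) := (BG Y T K1 (j - 1)).mkQ ∘ₗ
      ({ toFun := fun r => ⟨r.1.2.1 ∘ₗ K1.subtype, mem_ZG.2 ⟨fun z => r.1.2.2 _, fun z =>
           mem_ker_d_of_eq (by omega) ((hR r (z : Fin n → A)).symm.trans (by
             rw [LinearMap.mem_ker.1 z.2, map_zero]))⟩⟩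
         map_add' := fun _ _ => rfl
         map_smul' := fun _ _ => rfl } : R →ₗ[A] ZG Y T K1 (j - 1))
    let out : R →ₗ[A] QG Y T M j := (BG Y T M j).mkQ ∘ₗ LinearMap.fst A _ _ ∘ₗ R.subtype
    have hker : LinearMap.ker obs ≤ LinearMap.ker out := fun r hr => by
      obtain ⟨χ, hχ, hχd⟩ := (Submodule.Quotient.mk_eq_zero _).1 (LinearMap.mem_ker.1 hr)
      obtain ⟨θ, hθ, hθd⟩ := exists_descend hinj hπ j r.1.2.1 r.1.2.2 χ hχ fun z => LinearMap.congr_fun hχd z
      refine (Submodule.Quotient.mk_eq_zero _).2 ⟨θ, hθ, LinearMap.ext fun m => ?_⟩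
      obtain ⟨z, rfl⟩ := hπ m
      exact (hθd z).trans (hR r z).symm
    refine ⟨Submodule.fg_of_fg_map_of_fg_inf_ker cls ?_ ?_⟩
    · exact IsNoetherian.noetherian _
    · rw [top_inf_eq, show LinearMap.ker cls = LinearMap.range out from ?_]
      · exact finite_range_of_ker_le (R := R) out obs hker
      refine le_antisymm (fun x hx => ?_) ?_
      · obtain ⟨φ, rfl⟩ := Submodule.Quotient.mk_surjective _ x
        have h0 : ∀ m, ∃ w ∈ gamma T (Y.X (j - 1)), Y.d (j - 1) j w = φ.1 (π (Pi.single m 1)) := fun m =>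
          (Submodule.Quotient.mk_eq_zero _).1 (congr_fun (LinearMap.mem_ker.1 hx) m)
        choose w hw hwd using h0
        let ψ₀ : (Fin n → A) →ₗ[A] Y.X (j - 1) := (Pi.basisFun A (Fin n)).constr A w
        have hψ₀ : ψ₀ ∈ MG Y T (Fin n → A) (j - 1) := fun z => by
          show (Pi.basisFun A (Fin n)).constr A w z ∈ _
          rw [Module.Basis.constr_apply_fintype]
          exact Submodule.sum_mem _ fun m _ => Submodule.smul_mem _ _ (hw m)
        have hmem : (φ, ⟨ψ₀, hψ₀⟩) ∈ R := LinearMap.mem_ker.2 (sub_eq_zero.2 ((Pi.basisFun A (Fin n)).ext fun m => by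
          show φ.1 (π (Pi.basisFun A (Fin n) m)) = Y.d (j - 1) j (ψ₀ (Pi.basisFun A (Fin n) m))
          rw [Module.Basis.constr_basis, Pi.basisFun_apply]
          exact (hwd m).symm))
        exact ⟨⟨(φ, ⟨ψ₀, hψ₀⟩), hmem⟩, rfl⟩
      · rintro _ ⟨r, rfl⟩
        refine LinearMap.mem_ker.2 (funext fun m => (Submodule.Quotient.mk_eq_zero _).2 ?_)
        exact ⟨r.1.2.1 (Pi.single m 1), r.1.2.2 _, (hR r _).symm⟩

include hinj hlo in
/-- A cohomology module killed by an ideal with zero locus in `T` is finite. -/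
theorem finite_HYT_of_killT {i : ℤ} {J : Ideal A} (hJ : PrimeSpectrum.zeroLocus (J : Set A) ⊆ T)
    (hfin : ∀ l < i, Module.Finite A (HYT Y T l)) (hkill : ∀ a ∈ J, KillT Y a T i)
    (hQ : Module.Finite A (QG Y T (A ⧸ J) i)) : Module.Finite A (HYT Y T i) := by
  obtain ⟨n, π, hπ⟩ := Module.Finite.exists_fin' A J
  let K1 := LinearMap.ker π
  haveI hW : Module.Finite A (QG Y T K1 (i - 1)) :=
    finite_QG hinj hlo (i - lo).toNat (i - 1) (by omega) (fun l hl => hfin l (by omega)) K1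
  let R : Submodule A (ZT Y T i × MG Y T (Fin n → A) (i - 1)) :=
    { carrier := {r | ∀ z, Y.d (i - 1) i (r.2.1 z) = (π z : A) • (r.1 : Y.X i)}
      zero_mem' := fun z => by simp
      add_mem' := fun {a b} ha hb z => by
        show Y.d (i - 1) i (a.2.1 z + b.2.1 z) = (π z : A) • ((a.1 : Y.X i) + (b.1 : Y.X i))
        rw [map_add, ha z, hb z, smul_add]
      smul_mem' := fun c r hr z => by
        show Y.d (i - 1) i (c • r.2.1 z) = (π z : A) • (c • (r.1 : Y.X i))
        rw [map_smul, hr z, smul_comm] }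
  let out : R →ₗ[A] HYT Y T i := (BT Y T i).mkQ ∘ₗ LinearMap.fst A _ _ ∘ₗ R.subtype
  let obs : R →ₗ[A] QG Y T K1 (i - 1) := (BG Y T K1 (i - 1)).mkQ ∘ₗ
    ({ toFun := fun r => ⟨r.1.2.1 ∘ₗ K1.subtype, mem_ZG.2 ⟨fun z => r.1.2.2 _, fun z =>
         mem_ker_d_of_eq (by omega) ((r.2 (z : Fin n → A)).trans (by
           rw [LinearMap.mem_ker.1 z.2]
           exact zero_smul _ _))⟩⟩
       map_add' := fun _ _ => rfl
       map_smul' := fun _ _ => rfl } : R →ₗ[A] ZG Y T K1 (i - 1))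
  let ev : QG Y T (A ⧸ J) i →ₗ[A] HYT Y T i := (BG Y T (A ⧸ J) i).liftQ _ (BG_le_ker_evAt 1 i)
  have hker : LinearMap.ker obs ≤ LinearMap.ker ((LinearMap.range ev).mkQ ∘ₗ out) := fun r hr => by
    obtain ⟨χ, hχ, hχd⟩ := (Submodule.Quotient.mk_eq_zero _).1 (LinearMap.mem_ker.1 hr)
    obtain ⟨θ, hθ, hθd⟩ := exists_descend hinj hπ i r.1.2.1 r.1.2.2 χ hχ fun z => LinearMap.congr_fun hχd z
    haveI := hinj (i - 1)
    obtain ⟨Ψ, hΨ, hΨe⟩ := exists_extension J.subtype Subtype.val_injective θ hθ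
    let z₀ : Y.X i := (r.1.1 : Y.X i) - Y.d (i - 1) i (Ψ 1)
    have hz₀ : ∀ a ∈ J, a • z₀ = 0 := fun a ha => by
      obtain ⟨z, hz⟩ := hπ ⟨a, ha⟩
      have e : Y.d (i - 1) i (a • Ψ 1) = a • (r.1.1 : Y.X i) := by
        rw [← map_smul, smul_eq_mul, mul_one, show Ψ a = θ ⟨a, ha⟩ from hΨe ⟨a, ha⟩, ← hz, hθd z, r.2 z, hz]
      rw [smul_sub, ← map_smul (Y.d (i - 1) i).hom, e, sub_self]
    have hz₀T : z₀ ∈ gamma T (Y.X i) := mem_gamma_of_smul J hJ hz₀
    let f : (A ⧸ J) →ₗ[A] Y.X i := J.liftQ (LinearMap.toSpanSingleton A _ z₀) fun a ha => hz₀ a ha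
    have hdz : Y.d i (i + 1) z₀ = 0 := by
      rw [map_sub, show Y.d i (i + 1) (r.1.1 : Y.X i) = 0 from r.1.1.2.2, dd_zero, sub_zero]
    have hf : f ∈ ZG Y T (A ⧸ J) i := mem_ZG.2 ⟨fun m => by
        obtain ⟨m, rfl⟩ := Submodule.Quotient.mk_surjective _ m
        exact Submodule.smul_mem _ m hz₀T,
      fun m => by
        obtain ⟨m, rfl⟩ := Submodule.Quotient.mk_surjective _ m
        show Y.d i (i + 1) (m • z₀) = 0
        rw [map_smul, hdz, smul_zero]⟩
    refine (Submodule.Quotient.mk_eq_zero _).2 ⟨Submodule.Quotient.mk ⟨f, hf⟩, (Submodule.Quotient.eq _).2 ?_⟩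
    refine ⟨-Ψ 1, neg_mem (hΨ 1), ?_⟩
    show Y.d (i - 1) i (-Ψ 1) = (1 : A) • z₀ - (r.1.1 : Y.X i)
    rw [one_smul, map_neg]
    exact (sub_sub_cancel_left (r.1.1 : Y.X i) _).symm
  have hsurj : Function.Surjective out := fun x => by
    obtain ⟨y, rfl⟩ := Submodule.Quotient.mk_surjective _ x
    choose w hw hwd using fun m : Fin n =>
      hkill _ (π (Pi.single m 1)).2 y.1 y.2.1 y.2.2
    let ψ₀ : (Fin n → A) →ₗ[A] Y.X (i - 1) := (Pi.basisFun A (Fin n)).constr A w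
    have hψ₀ : ψ₀ ∈ MG Y T (Fin n → A) (i - 1) := fun z => by
      show (Pi.basisFun A (Fin n)).constr A w z ∈ _
      rw [Module.Basis.constr_apply_fintype]
      exact Submodule.sum_mem _ fun m _ => Submodule.smul_mem _ _ (hw m)
    have e : (Y.d (i - 1) i).hom ∘ₗ ψ₀ = LinearMap.toSpanSingleton A (Y.X i) y.1 ∘ₗ J.subtype ∘ₗ π :=
      (Pi.basisFun A (Fin n)).ext fun m => by
        show Y.d (i - 1) i (ψ₀ (Pi.basisFun A (Fin n) m)) = (π (Pi.basisFun A (Fin n) m) : A) • (y : Y.X i)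
        rw [Module.Basis.constr_basis, Pi.basisFun_apply]
        exact hwd m
    exact ⟨⟨(y, ⟨ψ₀, hψ₀⟩), fun z => LinearMap.congr_fun e z⟩, rfl⟩
  refine ⟨Submodule.fg_of_fg_map_of_fg_inf_ker (LinearMap.range ev).mkQ ?_ ?_⟩
  · rw [Submodule.map_top, show LinearMap.range (LinearMap.range ev).mkQ = LinearMap.range ((LinearMap.range ev).mkQ ∘ₗ out) from
      (LinearMap.range_comp_of_range_eq_top _ (LinearMap.range_eq_top.2 hsurj)).symm]
    exact finite_range_of_ker_le (R := R) _ obs hker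
  · rw [top_inf_eq, Submodule.ker_mkQ]
    exact Module.Finite.iff_fg.1 (inferInstance : Module.Finite A (LinearMap.range ev))

/-- Finite generation gives an annihilator. -/
theorem exists_killT_of_finite (lo n : ℤ) (hlo : ∀ i < lo, ∀ y : Y.X i, y = 0)
    (hfin : ∀ i ≤ n, Module.Finite A (HYT Y T i)) :
    ∃ J : Ideal A, PrimeSpectrum.zeroLocus (J : Set A) ⊆ T ∧ ∀ i ≤ n, ∀ a ∈ J, KillT Y a T i := by
  classical
  have h : ∀ i, ∃ J : Ideal A, PrimeSpectrum.zeroLocus (J : Set A) ⊆ T ∧ (i ≤ n → ∀ a ∈ J, KillT Y a T i) := by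
    intro i
    by_cases hi : i ≤ n
    swap
    · exact ⟨⊤, by simp, fun h => absurd h hi⟩
    haveI := hfin i hi
    obtain ⟨G, hG⟩ := Module.Finite.fg_top (R := A) (M := HYT Y T i)
    choose z hz using fun x : HYT Y T i => Submodule.Quotient.mk_surjective (BT Y T i) x
    refine ⟨∏ x ∈ G, annElt (A := A) (z x : Y.X i), fun p hp => ?_, fun _ a ha => (killT_iff a).2 fun x => ?_⟩
    · obtain ⟨x, -, hx⟩ := p.2.prod_le.1 ((PrimeSpectrum.mem_zeroLocus _ _).1 hp)
      exact zeroLocus_annElt_subset (z x).2.1 ((PrimeSpectrum.mem_zeroLocus _ _).2 hx)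
    · have hx : x ∈ Submodule.span A (G : Set (HYT Y T i)) := hG ▸ Submodule.mem_top
      induction hx using Submodule.span_induction with
      | mem x hx =>
        have h0 : a • z x = 0 := Subtype.ext (mem_annElt.1 (Ideal.prod_le_inf.trans (Finset.inf_le hx) ha))
        rw [← hz x, ← Submodule.Quotient.mk_smul, h0, Submodule.Quotient.mk_zero]
      | zero => exact smul_zero _
      | add x y _ _ hx hy => rw [smul_add, hx, hy, add_zero]
      | smul r x _ hx => rw [smul_comm, hx, smul_zero]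
  choose J hJ hJk using h
  refine ⟨∏ i ∈ Finset.Icc lo n, J i, fun p hp => ?_, fun i hi a ha => ?_⟩
  · obtain ⟨i, -, hi⟩ := p.2.prod_le.1 ((PrimeSpectrum.mem_zeroLocus _ _).1 hp)
    exact hJ i ((PrimeSpectrum.mem_zeroLocus _ _).2 hi)
  · by_cases hl : i < lo
    · exact fun y _ _ => ⟨0, zero_mem _, by rw [map_zero, hlo i hl y, smul_zero]⟩
    · exact hJk i hi a (Ideal.prod_le_inf.trans (Finset.inf_le (Finset.mem_Icc.2 ⟨not_lt.1 hl, hi⟩)) ha)

variable {K : Dual.D A} (S : InjRep K)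

/-- Finiteness of cohomology with supports is annihilation by an ideal. -/
theorem finite_iff_killT (a : ℤ) [K.IsGE a] (hK : ∀ j, Module.Finite A (Dual.HD A K j)) (n : ℤ) :
    (∀ i ≤ n, Module.Finite A (HYT S.E T i)) ↔
      ∃ J : Ideal A, PrimeSpectrum.zeroLocus (J : Set A) ⊆ T ∧ ∀ i ≤ n, ∀ x ∈ J, KillT S.E x T i := by
  have hlow : ∀ i < S.a, ∀ y : S.E.X i, y = 0 := fun i hi y => by
    haveI := ModuleCat.subsingleton_of_isZero (S.vanishes i hi)
    exact Subsingleton.elim _ _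
  refine ⟨exists_killT_of_finite S.a n hlow, ?_⟩
  rintro ⟨J, hJ, hkill⟩
  have h : ∀ (k : ℕ) (i : ℤ), i < S.a + k → i ≤ n → Module.Finite A (HYT S.E T i) := by
    intro k
    induction k with
    | zero =>
      intro i hi _
      haveI : Subsingleton (ZT S.E T i) := ⟨fun x y => Subtype.ext (by
        rw [hlow i (by simpa using hi) x, hlow i (by simpa using hi) y])⟩
      haveI : Subsingleton (HYT S.E T i) := (Submodule.Quotient.mk_surjective _).subsingleton
      exact Module.Finite.of_surjective (0 : A →ₗ[A] _) fun _ => ⟨0, Subsingleton.elim _ _⟩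
    | succ k ih =>
      intro i hi hin
      refine finite_HYT_of_killT S.inj hlow hJ
        (fun l hl => ih l (by push_cast at hi; omega) (by omega)) (hkill i hin) ?_
      haveI : Module.Finite A (HK K i (A ⧸ J)) := DualCxLib.finite_HK_of_bounded_below K hK a i (A ⧸ J)
      let φ : ZG S.E T (A ⧸ J) i →ₗ[A] HK K i (A ⧸ J) := S.toHK i ∘ₗ
        ({ toFun := fun f => ⟨f.1, (S.mem_Z _).2 (mem_ZG.1 f.2).2⟩
           map_add' := fun _ _ => rfl
           map_smul' := fun _ _ => rfl } : ZG S.E T (A ⧸ J) i →ₗ[A] S.Z (A ⧸ J) i)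
      have hker : LinearMap.ker φ ≤ BG S.E T (A ⧸ J) i := fun f hf => by
        obtain ⟨g, hg⟩ := (S.toHK_eq_zero_iff i _).1 (LinearMap.mem_ker.1 hf)
        have hgT : ∀ x, g x ∈ gamma T (S.E.X (i - 1)) := fun x => by
          obtain ⟨x, rfl⟩ := Submodule.Quotient.mk_surjective _ x
          refine mem_gamma_of_smul J hJ fun c hc => ?_
          rw [← map_smul, ← Submodule.Quotient.mk_smul, show (Submodule.Quotient.mk (c • x) : A ⧸ J) = 0 from
            (Submodule.Quotient.mk_eq_zero _).2 (J.mul_mem_right x hc), map_zero]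
        exact ⟨g, hgT, LinearMap.ext hg⟩
      haveI : Module.Finite A ((ZG S.E T (A ⧸ J) i) ⧸ LinearMap.ker φ) := Module.Finite.equiv φ.quotKerEquivRange.symm
      exact Module.Finite.of_surjective (Submodule.mapQ (LinearMap.ker φ) (BG S.E T (A ⧸ J) i) LinearMap.id hker)
        fun x => by
          obtain ⟨x, rfl⟩ := Submodule.Quotient.mk_surjective _ x
          exact ⟨Submodule.Quotient.mk x, rfl⟩
  exact fun i hi => h (i - S.a + 1).toNat i (by omega) hi

end Groth.Agent.FaltingsAnnLib
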