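import Groth.Agent.FaltingsAnnLib.Crit
import Groth.Agent.FaltingsAnnLib.Finite

/-!
# The annihilator and finiteness theorems
-/

set_option autoImplicit false
set_option linter.style.haveILetI false
set_option backward.isDefEq.respectTransparency false
set_option maxRecDepth 4000

universe u

open CategoryTheory Limits
attribute [local instance] HasDerivedCategory.standard

noncomputable section

namespace Groth.Agent.FaltingsAnnLib

open DualCxLib (InjRep ZeroAt HK dfn)

variable {A : Type u} [CommRing A]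

theorem exists_injRep_eq (K : Dual.D A) (a : ℤ) [K.IsGE a] : ∃ S : InjRep K, S.a = a := by
  let G := DerivedCategory.Q.objPreimage K
  let e₀ : DRing.toD G ≅ K := DerivedCategory.Q.objObjPreimageIso K
  haveI : G.IsGE a := (CochainComplex.isGE_iff _ _).2 fun i hi => by
    rw [DRingLib.exactAt_iff_isZero_homologyFunctor]
    exact IsZero.of_iso (DerivedCategory.isZero_of_isGE K a i hi)
      ((DerivedCategory.homologyFunctor _ i).mapIso e₀)
  haveI := DRingLib.isIso_Q_map (G.πTruncGE a) inferInstance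
  obtain ⟨E, ι, h1, h2, h3⟩ :=
    CochainComplex.Plus.modelCategoryQuillen.exists_quasiIso_injective (G.truncGE a) a
  haveI := h3
  haveI := DRingLib.isIso_Q_map ι h1
  exact ⟨⟨E, a, fun i hi => CochainComplex.isZero_of_isStrictlyGE E a i hi,
    fun i => (Module.injective_iff_injective_object A (E.X i)).2 (h2 i),
    (asIso (DerivedCategory.Q.map ι)).symm ≪≫ (asIso (DerivedCategory.Q.map (G.πTruncGE a))).symm ≪≫ e₀⟩, rfl⟩

theorem isGE_of_subsingleton (K : Dual.D A) (a : ℤ) (h : ∀ i : ℤ, i < a → Subsingleton (Dual.HD A K i)) : K.IsGE a :=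
  (DerivedCategory.isGE_iff K a).2 fun j hj => by
    haveI : Subsingleton ((DerivedCategory.homologyFunctor (ModuleCat.{u} A) j).obj K) := h j hj
    exact ModuleCat.isZero_of_subsingleton _

variable {Y : DRing.Cx A} {T : Set (PrimeSpectrum A)}

theorem killT_iff_equiv {V : Type*} [AddCommGroup V] [Module A V] {i : ℤ} (e : V ≃ₗ[A] HYT Y T i) (x : A) :
    KillT Y x T i ↔ ∀ v : V, x • v = 0 :=
  (killT_iff x).trans
    ⟨fun h v => e.map_eq_zero_iff.1 (by rw [map_smul, h]), fun h v => by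
      obtain ⟨v, rfl⟩ := e.surjective v
      rw [← map_smul, h, map_zero]⟩

theorem finite_iff_equiv {V : Type*} [AddCommGroup V] [Module A V] {i : ℤ} (e : V ≃ₗ[A] HYT Y T i) :
    Module.Finite A (HYT Y T i) ↔ Module.Finite A V :=
  ⟨fun h => by haveI := h; exact Module.Finite.equiv e.symm, fun h => by haveI := h; exact Module.Finite.equiv e⟩

variable [IsNoetherianRing A]

theorem finite_HYT_neg {K : Dual.D A} (S : InjRep K) (h : S.a = 0) {i : ℤ} (hi : i < 0) :
    Module.Finite A (HYT S.E T i) := by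
  haveI := ModuleCat.subsingleton_of_isZero (S.vanishes i (h.symm ▸ hi))
  haveI : Subsingleton (HYT S.E T i) := (Submodule.Quotient.mk_surjective _).subsingleton
  exact Module.Finite.of_surjective (0 : A →ₗ[A] _) fun _ => ⟨0, Subsingleton.elim _ _⟩

omit [IsNoetherianRing A] in
theorem killT_neg {K : Dual.D A} (S : InjRep K) (h : S.a = 0) {i : ℤ} (hi : i < 0) (x : A) :
    KillT S.E x T i := fun y _ _ => by
  haveI := ModuleCat.subsingleton_of_isZero (S.vanishes i (h.symm ▸ hi))
  exact ⟨0, zero_mem _, by rw [map_zero, Subsingleton.elim y 0, smul_zero]⟩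

theorem subsingleton_HDI_iff {ω : Dual.D A} (hω : Dual.IsDualizing A ω) (p : PrimeSpectrum A)
    [DRing.HasLBaseChange (algebraMap A (Localization.AtPrime p.asIdeal))] {K : Dual.D A} (S : InjRep K) (a : ℤ)
    [K.IsGE a] (hK : ∀ j, Module.Finite A (Dual.HD A K j)) (i : ℤ) :
    Subsingleton (Dual2.HDI (Localization.AtPrime p.asIdeal) (IsLocalRing.maximalIdeal (Localization.AtPrime p.asIdeal))
      ((DRing.LBaseChange (algebraMap A (Localization.AtPrime p.asIdeal))).obj K) i) ↔
      ZeroAt p.asIdeal (K ⟶ ω⟦dfn hω p - i⟧) := by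
  have h := (killAt_iff hω p S a hK 1 i).symm.trans (killAt_iff_HDI p S 1 i)
  simp only [mul_one] at h
  refine Iff.trans ?_ h.symm
  simp only [map_one, one_smul]
  exact ⟨fun _ x => Subsingleton.elim _ _, fun h => subsingleton_of_forall_eq 0 h⟩

/-- The condition in terms of local cohomology of the localizations. -/
theorem crit_iff_vanishing {ω : Dual.D A} (hω : Dual.IsDualizing A ω)
    [∀ p : PrimeSpectrum A, DRing.HasLBaseChange (algebraMap A (Localization.AtPrime p.asIdeal))] {K : Dual.D A}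
    (S : InjRep K) (a : ℤ) [K.IsGE a] (hK : ∀ j, Module.Finite A (Dual.HD A K j))
    (T T' : Set (PrimeSpectrum A)) (s : ℤ) :
    (∀ p q : PrimeSpectrum A, p ≤ q → p ∉ T' → q ∈ T → ∀ i ≤ s, ZeroAt p.asIdeal (K ⟶ ω⟦dfn hω q - i⟧)) ↔
    ∀ (p q : PrimeSpectrum A) (hpq : p ≤ q), p ∉ T' → q ∈ T → ∀ h : ℕ,
      Order.height (⟨q, hpq⟩ : Set.Ici p) = h → ∀ i : ℤ, i ≤ s - h →
      Subsingleton (Dual2.HDI (Localization.AtPrime p.asIdeal) (IsLocalRing.maximalIdeal (Localization.AtPrime p.asIdeal))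
        ((DRing.LBaseChange (algebraMap A (Localization.AtPrime p.asIdeal))).obj K) i) := by
  refine ⟨fun H p q hpq hp hq h hh i hi => ?_, fun H p q hpq hp hq i hi => ?_⟩
  · rw [height_Ici_eq hω hpq, Nat.cast_inj] at hh
    have := DualCxLib.dfn_le hω hpq
    rw [subsingleton_HDI_iff hω p S a hK]
    have := H p q hpq hp hq (i + h) (by omega)
    rwa [show dfn hω q - (i + h) = dfn hω p - i by omega] at this
  · have := DualCxLib.dfn_le hω hpq
    have h' := (subsingleton_HDI_iff hω p S a hK (i - (dfn hω q - dfn hω p).toNat)).1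
      (H p q hpq hp hq _ (height_Ici_eq hω hpq) _ (by omega))
    rwa [show dfn hω p - (i - (dfn hω q - dfn hω p).toNat) = dfn hω q - i by omega] at h'

theorem krullDim_Icc_eq {ω : Dual.D A} (hω : Dual.IsDualizing A ω) {p q : PrimeSpectrum A} (hpq : p ≤ q) :
    Order.krullDim (Set.Icc p q) = (((dfn hω q - dfn hω p).toNat : ℕ) : WithBot ℕ∞) := by
  refine le_antisymm (iSup_le fun l => ?_) ?_
  · have h1 := DualCxLib.dfn_ltSeries hω (l.map Subtype.val (Subtype.strictMono_coe _))
    rw [LTSeries.last_map, LTSeries.head_map, LTSeries.map_length] at h1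
    have h2 := DualCxLib.dfn_le hω (show p ≤ l.head.1 from l.head.2.1)
    have h3 := DualCxLib.dfn_le hω (show l.last.1 ≤ q from l.last.2.2)
    exact_mod_cast show l.length ≤ (dfn hω q - dfn hω p).toNat by omega
  · obtain ⟨l, hl, hlen⟩ := Order.exists_series_of_le_height (⟨q, hpq⟩ : Set.Ici p)
      (le_of_eq (height_Ici_eq hω hpq).symm)
    let l' : LTSeries (Set.Icc p q) :=
      { length := l.length
        toFun := fun k => ⟨(l k).1, (l k).2, by
          have := l.monotone (Fin.le_last k)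
          rw [show l (Fin.last _) = _ from hl] at this
          exact this⟩
        step := fun k => l.step k }
    refine le_of_eq_of_le ?_ (Order.LTSeries.length_le_krullDim l')
    show (((dfn hω q - dfn hω p).toNat : ℕ) : WithBot ℕ∞) = ((l.length : ℕ) : WithBot ℕ∞)
    rw [hlen]

/-- The condition for modules in terms of depth. -/
theorem crit_iff_depth {ω : Dual.D A} (hω : Dual.IsDualizing A ω) (M : Type u) [AddCommGroup M] [Module A M]
    [Module.Finite A M] (s : ℕ) {p q : PrimeSpectrum A} (hpq : p ≤ q) :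
    (∀ i ≤ (s : ℤ), ZeroAt p.asIdeal (HK ω (dfn hω q - i) M)) ↔
      (s : WithBot ℕ∞) < ((LocCoh.depth (Localization.AtPrime p.asIdeal) (LocalizedModule p.asIdeal.primeCompl M) : ℕ∞) :
        WithBot ℕ∞) + Order.krullDim (Set.Icc p q) := by
  rw [krullDim_Icc_eq hω hpq]
  have := DualCxLib.dfn_le hω hpq
  by_cases hp : p ∈ Module.support A M
  · obtain ⟨D, hD⟩ := DualCxLib.exists_depth_localized p hp
    obtain ⟨hb, hne⟩ := DualCxLib.depth_bounds hω p D M hD
    rw [hD]
    refine Iff.trans ?_ (show s < D + (dfn hω q - dfn hω p).toNat ↔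
      (s : WithBot ℕ∞) < ((D : ℕ∞) : WithBot ℕ∞) + (((dfn hω q - dfn hω p).toNat : ℕ) : WithBot ℕ∞) by norm_cast)
    refine ⟨fun h => ?_, fun h i hi => by_contra fun hz => ?_⟩
    · by_contra hc
      refine hne ?_
      have h' := h (dfn hω q - (dfn hω p - D)) (by omega)
      rwa [sub_sub_cancel] at h'
    · have := hb _ hz
      omega
  · haveI : Subsingleton (LocalizedModule p.asIdeal.primeCompl M) := not_nontrivial_iff_subsingleton.1 hp
    rw [CAlgBasics.depth_eq_top]
    refine iff_of_true (fun i _ => DualCxLib.zeroAt_HK_of_primes ω _ p.asIdeal M fun Q hQ hQs =>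
      (hp (Module.mem_support_mono (p := Q) (q := p) hQ hQs)).elim) ?_
    show ((s : ℕ∞) : WithBot ℕ∞) < ((⊤ : ℕ∞) : WithBot ℕ∞) + (((dfn hω q - dfn hω p).toNat : ℕ∞) : WithBot ℕ∞)
    rw [← WithBot.coe_add, top_add, WithBot.coe_lt_coe]
    exact ENat.natCast_lt_top s

variable (T)

/-- The annihilator theorem for modules, stated with depth. -/
theorem annihilator_module (hA : ∃ ω : Dual.D A, Dual.IsDualizing A ω) {T' : Set (PrimeSpectrum A)}
    (hT : StableUnderSpecialization T) (hT' : StableUnderSpecialization T') (s : ℕ) (M : Type u) [AddCommGroup M]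
    [Module A M] [Module.Finite A M] (S : InjRep (Dual.inD A M)) (hS : S.a = 0) :
    (∃ J : Ideal A, PrimeSpectrum.zeroLocus (J : Set A) ⊆ T' ∧ ∀ i : ℕ, i ≤ s → ∀ x ∈ J, KillT S.E x T i) ↔
      ∀ p q : PrimeSpectrum A, p ∉ T' → q ∈ T → p ≤ q → (s : WithBot ℕ∞) <
        ((LocCoh.depth (Localization.AtPrime p.asIdeal) (LocalizedModule p.asIdeal.primeCompl M) : ℕ∞) : WithBot ℕ∞) +
          Order.krullDim (Set.Icc p q) := by
  obtain ⟨ω, hω⟩ := hA
  have h : (∃ J : Ideal A, PrimeSpectrum.zeroLocus (J : Set A) ⊆ T' ∧ ∀ i : ℕ, i ≤ s → ∀ x ∈ J, KillT S.E x T i) ↔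
      (∃ J : Ideal A, PrimeSpectrum.zeroLocus (J : Set A) ⊆ T' ∧ ∀ i ≤ (s : ℤ), ∀ x ∈ J, KillT S.E x T i) := by
    refine exists_congr fun J => and_congr_right fun _ => ⟨fun h i hi x hx => ?_, fun h i hi => h i (by exact_mod_cast hi)⟩
    rcases lt_or_ge i 0 with hneg | hnn
    · exact killT_neg S hS hneg x
    · obtain ⟨k, rfl⟩ := Int.eq_ofNat_of_zero_le hnn
      exact h k (by exact_mod_cast hi) x hx
  rw [h, exists_killT_iff hω S 0 (finite_HD_inD M) hT hT' s]
  exact ⟨fun H p q hp hq hpq => (crit_iff_depth hω M s hpq).1 fun i hi => H p q hpq hp hq i hi,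
    fun H p q hpq hp hq i hi => (crit_iff_depth hω M s hpq).2 (H p q hp hq hpq) i hi⟩

/-- Finiteness for modules is annihilation. -/
theorem finite_module (n : ℕ) (M : Type u) [AddCommGroup M]
    [Module A M] [Module.Finite A M] (S : InjRep (Dual.inD A M)) (hS : S.a = 0) :
    (∀ i : ℕ, i ≤ n → Module.Finite A (HYT S.E T i)) ↔
      ∃ J : Ideal A, PrimeSpectrum.zeroLocus (J : Set A) ⊆ T ∧ ∀ i : ℕ, i ≤ n → ∀ x ∈ J, KillT S.E x T i := by
  refine ⟨fun h => ?_, ?_⟩
  · obtain ⟨J, hJ, hk⟩ := (finite_iff_killT (T := T) S 0 (finite_HD_inD M) n).1 fun i hi => by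
      rcases lt_or_ge i 0 with hneg | hnn
      · exact finite_HYT_neg S hS hneg
      · obtain ⟨k, rfl⟩ := Int.eq_ofNat_of_zero_le hnn
        exact h k (by exact_mod_cast hi)
    exact ⟨J, hJ, fun i hi => hk i (by exact_mod_cast hi)⟩
  · rintro ⟨J, hJ, hk⟩ i hi
    refine (finite_iff_killT (T := T) S 0 (finite_HD_inD M) n).2 ⟨J, hJ, fun k hkn x hx => ?_⟩ i (by exact_mod_cast hi)
    rcases lt_or_ge k 0 with hneg | hnn
    · exact killT_neg S hS hneg x
    · obtain ⟨k, rfl⟩ := Int.eq_ofNat_of_zero_le hnn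
      exact hk k (by exact_mod_cast hkn) x hx

end Groth.Agent.FaltingsAnnLib
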