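import Groth.Agent.FaltingsAnnLib.KillCompl
import Groth.Agent.BootLib.Completion
import Groth.Agent.S0380

/-!
# Algebraization of completed local cohomology in low degrees
-/

set_option autoImplicit false
set_option linter.style.haveILetI false
set_option backward.isDefEq.respectTransparency false

universe u

open CategoryTheory Limits Pretriangulated
attribute [local instance] HasDerivedCategory.standard

noncomputable section

namespace Groth.Agent.FaltingsAnnLib

open DualCxLib (dfn InjRep ltTri ltTri_mem)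
open DComplLib (isCompl_toDerivedCompletion hQIso)
open TorsCoreflLib (PT NoTors NoCompl)

variable {A : Type u} [CommRing A] [IsNoetherianRing A]

theorem pt_of_le_radical {K K' : Ideal A} (h : K' ≤ K.radical) {X : Dual.D A} (hX : PT K X) : PT K' X := fun i =>
  isPowerTorsion_of_elementwise K' fun x a ha => by
    obtain ⟨m, hm⟩ := h ha
    obtain ⟨n, hn⟩ := exists_pow_smul_of_pt K hX hm i x
    exact ⟨m * n, by rw [pow_mul]; exact hn⟩

theorem nonempty_RgammaI_congr {K K' : Ideal A} [DRing.HasRgammaI K] [DRing.HasRgammaI K'] (h : K ≤ K'.radical)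
    (h' : K' ≤ K.radical) (X : Dual.D A) : Nonempty ((DRing.RgammaI K).obj X ≅ (DRing.RgammaI K').obj X) :=
  let ⟨θ, _⟩ := CechComplLib.exists_iso_RgammaI K' (K := X) (e := (DRing.RgammaIε K).app X)
    (pt_of_le_radical h' (TorsCoreflLib.torsion_RgammaI K X))
    fun W hW => TorsCoreflLib.comp_ε_bijective K W X (pt_of_le_radical h hW)
  ⟨θ⟩

/-- The completed local cohomology only depends on the support inside `V(I)`. -/
theorem exists_cX_iso (I J J' : Ideal A) [DRing.HasRgammaI J] [DRing.HasRgammaI J'] [DRing.HasDerivedCompletion I]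
    (h : PrimeSpectrum.zeroLocus (J' : Set A) ∩ PrimeSpectrum.zeroLocus (I : Set A) =
      PrimeSpectrum.zeroLocus (J : Set A) ∩ PrimeSpectrum.zeroLocus (I : Set A))
    (M : Type u) [AddCommGroup M] [Module A M] : Nonempty (cX J' I M ≅ cX J I M) := by
  haveI := TorsCoreflLib.hasRgammaI I
  haveI := TorsCoreflLib.hasRgammaI (J ⊔ I)
  haveI := TorsCoreflLib.hasRgammaI (J' ⊔ I)
  have hrad : (J' ⊔ I).radical = (J ⊔ I).radical := by
    rw [← PrimeSpectrum.zeroLocus_eq_iff, PrimeSpectrum.zeroLocus_sup, PrimeSpectrum.zeroLocus_sup]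
    exact h
  obtain ⟨e₁⟩ := (TorsCoreflLib.greenlees_may I ((DRing.RgammaI J').obj (Dual.inD A M))).2
  obtain ⟨e₂⟩ := DualCxLib.nonempty_RgammaI_RgammaI J' I (Dual.inD A M)
  obtain ⟨e₃⟩ := nonempty_RgammaI_congr (K := J' ⊔ I) (K' := J ⊔ I) (hrad ▸ Ideal.le_radical)
    (hrad.symm ▸ Ideal.le_radical) (Dual.inD A M)
  obtain ⟨e₄⟩ := DualCxLib.nonempty_RgammaI_RgammaI J I (Dual.inD A M)
  obtain ⟨e₅⟩ := (TorsCoreflLib.greenlees_may I ((DRing.RgammaI J).obj (Dual.inD A M))).2
  exact ⟨(ObjectProperty.ι (DRing.IsDerivedComplete I)).mapIso (e₁.symm ≪≫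
    (DRing.derivedCompletion I).mapIso (e₂ ≪≫ e₃ ≪≫ e₄.symm) ≪≫ e₅)⟩

theorem subsingleton_cX_neg (I J : Ideal A) [DRing.HasRgammaI J] [DRing.HasDerivedCompletion I]
    (M : Type u) [AddCommGroup M] [Module A M] [Module.Finite A M] {i : ℤ} (hi : i < 0) :
    Subsingleton (Dual.HD A (cX J I M) i) := by
  obtain ⟨fs, hfs⟩ := DComplLib.exists_ofList (J.fg_of_isNoetherianRing)
  let Mc := ModuleCat.of A M
  obtain ⟨θ, -⟩ := CechComplLib.exists_iso_RgammaI_extCech J Mc hfs
  obtain ⟨e, -⟩ := ((CechComplLib.isCompl_adic_extCech Mc I fs).of_iso θ.symm).exists_iso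
    (isCompl_toDerivedCompletion (I := I) ((DRing.RgammaI J).obj (Dual.inD A M)))
  let K := (CechComplLib.adicCx I).obj (DerCA.extCech Mc fs)
  haveI : Subsingleton (K.homology i) := ModuleCat.subsingleton_of_isZero
    (HomologicalComplex.exactAt_iff_isZero_homology K i |>.1
      (ShortComplex.exact_of_isZero_X₂ _ ((CechComplLib.adicF I).map_isZero
        (ExtCechLib.isZero_extCech_X Mc fs i (Or.inl hi)))))
  exact (((DerivedCategory.homologyFunctor (ModuleCat.{u} A) i).mapIso e).symm.toLinearEquiv.trans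
    ((hQIso K i).toLinearEquiv : Dual.HD A (DRing.toD K) i ≃ₗ[A] K.homology i)).toEquiv.subsingleton

/-- The comparison map is universal for torsion objects. -/
theorem bijective_postcomp_toDerivedCompletion (I J : Ideal A) [IsAdicComplete I A] [DRing.HasRgammaI J]
    [DRing.HasDerivedCompletion I] (M : Type u) [AddCommGroup M] [Module A M] [Module.Finite A M]
    (T : Dual.D A) (hT : PT J T) :
    Function.Bijective fun φ : T ⟶ (DRing.RgammaI J).obj (Dual.inD A M) =>
      φ ≫ DRing.toDerivedCompletion I ((DRing.RgammaI J).obj (Dual.inD A M)) := by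
  haveI := TorsCoreflLib.hasRgammaI I
  haveI := TorsCoreflLib.hasRgammaI (J ⊔ I)
  let X := (DRing.RgammaI J).obj (Dual.inD A M)
  let η := DRing.toDerivedCompletion I X
  let ε := (DRing.RgammaIε I).app T
  let εJ := (DRing.RgammaIε J).app (Dual.inD A M)
  have hη := isCompl_toDerivedCompletion (I := I) X
  obtain ⟨C, π, δ, hC0⟩ := distinguished_cocone_triangle η
  have hC : NoTors I C := TorsCoreflLib.noTors_of_noCompl I (TorsCoreflLib.yoneda₃_zero I hC0 hη.bij)
  obtain ⟨C', π', δ', hC1⟩ := distinguished_cocone_triangle ε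
  have hC' : NoCompl I C' := TorsCoreflLib.noCompl_of_noTors I
    (TorsCoreflLib.coyoneda₃_zero I hC1 fun W hW => TorsCoreflLib.comp_ε_bijective I W _ hW)
  haveI := FiniteCompleteLib.isAdicComplete_of_finite I M
  have hM : (I : Set A) ⊆ DComplLib.dcIdealD (Dual.inD A M) := by
    intro f hf
    haveI := CechComplLib.isIso_adicηCx_single I (ModuleCat.of A M)
    exact DComplLib.mem_dcIdealD_of_iso
      ((asIso (DerivedCategory.Q.map (CechComplLib.adicηCx I
        ((HomologicalComplex.single (ModuleCat.{u} A) (ComplexShape.up ℤ) 0).obj (ModuleCat.of A M))))).symm ≪≫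
        ((DerivedCategory.singleFunctorIsoCompQ (ModuleCat.{u} A) 0).app (ModuleCat.of A M)).symm)
      (CechComplLib.mem_adicCx I _ hf)
  have hR : PT I ((DRing.RgammaI I).obj T) := TorsCoreflLib.torsion_RgammaI I T
  have hRJ : PT J ((DRing.RgammaI I).obj T) := by
    haveI := DualCxLib.isIso_RgammaIε_app J T hT
    obtain ⟨c⟩ := DualCxLib.nonempty_RgammaI_RgammaI J I T
    intro i
    exact TorsCoreflLib.isPowerTorsion_equiv J
      ((DerivedCategory.homologyFunctor (ModuleCat.{u} A) i).mapIso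
        ((DRing.RgammaI I).mapIso (asIso ((DRing.RgammaIε J).app T)).symm ≪≫ c)).toLinearEquiv
      (pt_of_le_radical ((le_sup_left : J ≤ J ⊔ I).trans Ideal.le_radical) (TorsCoreflLib.torsion_RgammaI (J ⊔ I) T) i)
  have pre : Function.Bijective fun g : T ⟶ ((DRing.derivedCompletion I).obj X).obj => ε ≫ g :=
    TorsCoreflLib.precomp_bijective I hC1 hC' hη.mem
  have preM : Function.Bijective fun g : T ⟶ Dual.inD A M => ε ≫ g :=
    TorsCoreflLib.precomp_bijective I hC1 hC' hM
  have post := TorsCoreflLib.postcomp_bijective I hC0 hC hR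
  have hεR := TorsCoreflLib.comp_ε_bijective J ((DRing.RgammaI I).obj T) (Dual.inD A M) hRJ
  have hεT := TorsCoreflLib.comp_ε_bijective J T (Dual.inD A M) hT
  refine ⟨fun φ φ' h => hεT.1 (preM.1 ?_), fun ψ => ?_⟩
  · have h1 : ε ≫ φ = ε ≫ φ' := post.1 (by
      show (ε ≫ φ) ≫ η = (ε ≫ φ') ≫ η
      rw [Category.assoc, Category.assoc]
      exact congrArg (ε ≫ ·) h)
    show ε ≫ φ ≫ εJ = ε ≫ φ' ≫ εJ
    rw [← Category.assoc, h1, Category.assoc]
  · obtain ⟨χ, hχ⟩ := post.2 (ε ≫ ψ)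
    obtain ⟨θ, hθ⟩ := preM.2 (χ ≫ εJ)
    obtain ⟨φ, hφ⟩ := hεT.2 θ
    refine ⟨φ, pre.1 ?_⟩
    have h1 : ε ≫ φ = χ := hεR.1 (by
      show (ε ≫ φ) ≫ εJ = χ ≫ εJ
      rw [Category.assoc, show φ ≫ εJ = θ from hφ]
      exact hθ)
    show ε ≫ φ ≫ η = ε ≫ ψ
    rw [← Category.assoc, h1]
    exact hχ

/-- The lowest cohomology of an object receiving no torsion objects has no torsion. -/
theorem eq_zero_of_noTors (I : Ideal A) {C : Dual.D A} (hC : NoTors I C) (c : ℤ) [C.IsGE c] (z : Dual.HD A C c)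
    (n : ℕ) (hz : ∀ a ∈ I ^ n, a • z = 0) : z = 0 := by
  let H := DerivedCategory.homologyFunctor (ModuleCat.{u} A) c
  let T := ltTri (c + 1) C
  haveI : DerivedCategory.IsGE T.obj₁ c := SiteCmpLib.isGE_truncLT C c (c + 1)
  haveI : DerivedCategory.IsLE T.obj₁ c := (DerivedCategory.isLE_iff _ _).2 fun j hj =>
    DualCxLib.HD_ltTri₁_of_le (c + 1) C (by omega)
  obtain ⟨Y, ⟨e⟩⟩ := DerivedCategory.exists_iso_singleFunctor_obj_of_isGE_of_isLE T.obj₁ c
  obtain ⟨u, hu⟩ : ∃ u, (H.map T.mor₁).hom u = z := by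
    have h := (ShortComplex.ShortExact.moduleCat_exact_iff_function_exact _).1
      (DerivedCategory.HomologySequence.exact₂ T (ltTri_mem (c + 1) C) c)
    haveI := ModuleCat.subsingleton_of_isZero (DualCxLib.HD_ltTri₃_of_lt (c + 1) C (show c < c + 1 by omega))
    exact (h z).1 (@Subsingleton.elim _ (by assumption) _ _)
  let σ := DerivedCategory.singleFunctorCompHomologyFunctorIso (ModuleCat.{u} A) c
  let ey : H.obj T.obj₁ ≅ Y := H.mapIso e ≪≫ σ.app Y
  let N : ModuleCat.{u} A := ModuleCat.of A (DRing.torsionSub I Y)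
  let ι : N ⟶ Y := ModuleCat.ofHom (DRing.torsionSub I Y).subtype
  let F := DerivedCategory.singleFunctor (ModuleCat.{u} A) c
  have hN : PT I (F.obj N) := fun i => by
    by_cases hi : i = c
    · subst hi
      exact TorsCoreflLib.isPowerTorsion_equiv I (σ.app N).toLinearEquiv fun m => by
        obtain ⟨k, hk⟩ := m.2
        exact ⟨k, fun a ha => Subtype.ext (hk a ha)⟩
    · intro m
      haveI : Subsingleton ((DerivedCategory.homologyFunctor (ModuleCat.{u} A) i).obj (F.obj N)) :=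
        ModuleCat.subsingleton_of_isZero ((lt_or_gt_of_ne hi).elim
          (fun h => DerivedCategory.isZero_of_isGE _ c i h) (fun h => DerivedCategory.isZero_of_isLE _ c i h))
      exact ⟨0, fun a _ => Subsingleton.elim _ _⟩
  have h0 : F.map ι ≫ e.inv ≫ T.mor₁ = 0 := hC _ hN _
  have hy : ey.hom.hom u ∈ DRing.torsionSub I Y := ⟨n, fun a ha => by
    have h1 : a • u = 0 := DualCxLib.HD_ltTri₁_injective (c + 1) C (show c ≤ c + 1 by omega) (by
      rw [map_smul, map_zero]
      exact (congrArg (a • ·) hu).trans (hz a ha))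
    rw [← map_smul, h1, map_zero]⟩
  have h1 := congr((H.map $h0).hom ((σ.app N).inv.hom (⟨ey.hom.hom u, hy⟩ : DRing.torsionSub I Y)))
  rw [Functor.map_comp, Functor.map_comp, Functor.map_zero] at h1
  have h2 : (H.map (F.map ι)).hom ((σ.app N).inv.hom (⟨ey.hom.hom u, hy⟩ : DRing.torsionSub I Y)) =
      (σ.app Y).inv.hom (ey.hom.hom u) :=
    (congr($(σ.inv.naturality ι).hom (⟨ey.hom.hom u, hy⟩ : DRing.torsionSub I Y))).symm
  change (H.map T.mor₁).hom ((H.map e.inv).hom ((H.map (F.map ι)).hom _)) = 0 at h1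
  rw [h2] at h1
  rw [← hu, ← h1]
  refine congrArg _ ?_
  show u = (ey.inv).hom (ey.hom.hom u)
  exact (congr($(ey.hom_inv_id).hom u)).symm

theorem exists_iso_HD_RgammaI {M : Type u} [AddCommGroup M] [Module A M] (S : InjRep (Dual.inD A M)) (J : Ideal A)
    [DRing.HasRgammaI J] (i : ℤ) : Nonempty (Dual.HD A ((DRing.RgammaI J).obj (Dual.inD A M)) i ≃ₗ[A]
      HYT S.E (PrimeSpectrum.zeroLocus (J : Set A)) i) :=
  let ⟨e₁⟩ := DualCxLib.nonempty_HD_RgammaI J (Dual.inD A M) i
  let ⟨e₂⟩ := exists_HDI_equiv S J i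
  ⟨e₁.trans e₂⟩

/-- Bijectivity of the comparison from annihilation by a power of a product. -/
theorem bijective_toDerivedCompletion (I J : Ideal A) [IsAdicComplete I A] [DRing.HasRgammaI J]
    [DRing.HasDerivedCompletion I] (M : Type u) [AddCommGroup M] [Module A M] [Module.Finite A M] (s : ℕ) (n : ℕ)
    (hX : ∀ a ∈ (J * I) ^ n, ∀ i : ℤ, i ≤ s → ∀ x : Dual.HD A ((DRing.RgammaI J).obj (Dual.inD A M)) i, a • x = 0)
    (hc : ∀ a ∈ (J * I) ^ n, ∀ i : ℤ, i ≤ s → ∀ x : Dual.HD A (cX J I M) i, a • x = 0) (i : ℤ) (hi : i ≤ s) :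
    Function.Bijective ((DerivedCategory.homologyFunctor (ModuleCat.{u} A) i).map
      (DRing.toDerivedCompletion I ((DRing.RgammaI J).obj (Dual.inD A M)))).hom := by
  haveI := TorsCoreflLib.hasRgammaI I
  obtain ⟨S, hS⟩ := exists_injRep_eq (Dual.inD A M) 0
  let X := (DRing.RgammaI J).obj (Dual.inD A M)
  let η := DRing.toDerivedCompletion I X
  let H := fun j : ℤ => DerivedCategory.homologyFunctor (ModuleCat.{u} A) j
  obtain ⟨C, π, δ, hT⟩ := distinguished_cocone_triangle η
  let T := Triangle.mk η π δ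
  have hI : NoTors I C :=
    TorsCoreflLib.noTors_of_noCompl I (TorsCoreflLib.yoneda₃_zero I hT (isCompl_toDerivedCompletion (I := I) X).bij)
  have hJ : NoTors J C :=
    TorsCoreflLib.coyoneda₃_zero J hT fun W hW => bijective_postcomp_toDerivedCompletion I J M W hW
  have ex₂ : ∀ j, Function.Exact ((H j).map η).hom ((H j).map π).hom := fun j =>
    (ShortComplex.ShortExact.moduleCat_exact_iff_function_exact _).1
      (DerivedCategory.HomologySequence.exact₂ T hT j)
  have ex₃ : ∀ j, Function.Exact ((H j).map π).hom (DerivedCategory.HomologySequence.δ T j (j + 1) rfl).hom :=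
    fun j => (ShortComplex.ShortExact.moduleCat_exact_iff_function_exact _).1
      (DerivedCategory.HomologySequence.exact₃ T hT j (j + 1))
  have hlow : ∀ (c : ℤ), (∀ j < c, Subsingleton (Dual.HD A C j)) → ∀ (m : ℕ) (z : Dual.HD A C c),
      (∀ a ∈ (J * I) ^ m, a • z = 0) → z = 0 := fun c hsub m z hz => by
    haveI := isGE_of_subsingleton C c hsub
    refine eq_zero_of_noTors J hJ c z m fun a ha => eq_zero_of_noTors I hI c (a • z) m fun b hb => ?_
    rw [smul_smul]
    refine hz _ ?_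
    rw [mul_pow, mul_comm b a]
    exact Ideal.mul_mem_mul ha hb
  have hsub : ∀ (k : ℕ) (c : ℤ), c < (k : ℤ) - 1 → c < (s : ℤ) → Subsingleton (Dual.HD A C c) := by
    intro k
    induction k with
    | zero =>
      intro c hc' _
      haveI : Subsingleton (Dual.HD A X (c + 1)) := subsingleton_of_forall_eq 0 fun y => by
        have := (killT_iff_equiv (exists_iso_HD_RgammaI S J (c + 1)).some 1).1
          (killT_neg S hS (by omega) 1) y
        rwa [one_smul] at this
      exact DComplLib.subsingleton_HD_obj₃ T hT c (subsingleton_cX_neg I J M (by omega)) (by assumption)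
    | succ k ih =>
      intro c hc' hcs
      by_cases hlt : c < (k : ℤ) - 1
      · exact ih c hlt hcs
      refine subsingleton_of_forall_eq 0 fun z => hlow c (fun j hj => ih j (by omega) (by omega)) (n + n) z
        fun a ha => ?_
      rw [pow_add] at ha
      induction ha using Submodule.mul_induction_on' with
      | mem_mul_mem b hb b' hb' =>
        have h3 : (DerivedCategory.HomologySequence.δ T c (c + 1) rfl).hom (b' • z) = 0 := by
          rw [map_smul]
          exact hX b' hb' (c + 1) (by omega) _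
        obtain ⟨y, hy⟩ := (ex₃ c _).1 h3
        rw [mul_smul, ← hy]
        exact (map_smul _ b y).symm.trans ((congrArg _ (hc b hb c (by omega) y)).trans (map_zero _))
      | add b _ b' _ h h' => rw [add_smul, h, h', add_zero]
  have hs : ∀ j < (s : ℤ), Subsingleton (Dual.HD A C j) := fun j hj => hsub (s + 1) j (by push_cast; omega) hj
  refine ⟨(injective_iff_map_eq_zero _).2 fun x hx => ?_, fun y => ?_⟩
  · have h1 := (ShortComplex.ShortExact.moduleCat_exact_iff_function_exact _).1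
      (DerivedCategory.HomologySequence.exact₁ T hT (i - 1) i (by omega))
    obtain ⟨z, hz⟩ := (h1 x).1 hx
    haveI := hs (i - 1) (by omega)
    rw [← hz]
    exact (congrArg _ (@Subsingleton.elim (Dual.HD A C (i - 1)) _ z 0)).trans (map_zero _)
  · refine (ex₂ i y).1 ?_
    rcases lt_or_eq_of_le hi with hlt | rfl
    · haveI := hs i hlt
      exact @Subsingleton.elim (Dual.HD A C i) _ _ _
    · refine hlow s hs n _ fun a ha => ?_
      exact (map_smul _ a y).symm.trans ((congrArg _ (hc a ha s le_rfl y)).trans (map_zero _))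

/-- Completeness bounds the dimension of the branches inside the large set. -/
theorem exists_dimBetween_le {I J : Ideal A} [IsAdicComplete I A] {d : ℕ} (hcd : LocCoh.CdLE A I d)
    {T : Set (PrimeSpectrum A)} (hT : ∀ p : PrimeSpectrum A, p ∈ T ↔ ∀ q : PrimeSpectrum A, p ≤ q → I ≤ q.asIdeal → J ≤ q.asIdeal)
    (p : PrimeSpectrum A) (hp : p ∈ T) : ∃ q : PrimeSpectrum A, p ≤ q ∧ J ≤ q.asIdeal ∧ I ≤ q.asIdeal ∧
      Formal2.dimBetween A p.asIdeal q.asIdeal ≤ ((d : ℕ∞) : WithBot ℕ∞) := by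
  obtain ⟨m, hm, hpm⟩ := Ideal.exists_le_maximal p.asIdeal p.2.ne_top
  have hIm : I ≤ m := (IsAdicComplete.le_jacobson_bot I).trans (sInf_le ⟨bot_le, hm⟩)
  haveI := hm.isPrime
  obtain ⟨P, hP, -⟩ := Ideal.exists_minimalPrimes_le (I := p.asIdeal ⊔ I) (J := m) (sup_le hpm hIm)
  let q : PrimeSpectrum A := ⟨P, hP.1.1⟩
  have hpq : p ≤ q := le_sup_left.trans hP.1.2
  have hIq : I ≤ q.asIdeal := le_sup_right.trans hP.1.2
  refine ⟨q, hpq, (hT p).1 hp q hpq hIq, hIq, ?_⟩
  haveI : q.asIdeal.IsPrime := q.isPrime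
  let L := Localization.AtPrime q.asIdeal
  haveI : IsNoetherianRing L := IsLocalization.isNoetherianRing q.asIdeal.primeCompl L inferInstance
  have hne : ∀ {K : Ideal A}, K ≤ q.asIdeal → K.map (algebraMap A L) ≤ IsLocalRing.maximalIdeal L := fun hK => by
    rw [← Localization.AtPrime.map_eq_maximalIdeal]
    exact Ideal.map_mono hK
  haveI : (p.asIdeal.map (algebraMap A L)).IsPrime :=
    IsLocalization.isPrime_of_isPrime_disjoint q.asIdeal.primeCompl L p.asIdeal p.2
      (Set.disjoint_left.2 fun a ha hap => ha (hpq hap))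
  refine le_of_eq_of_le (by rw [Formal2.dimBetween]) (BootLib.ringKrullDim_quotient_le_of_cdLE _
    (ne_top_of_le_ne_top (IsLocalRing.maximalIdeal.isMaximal L).ne_top (hne hIq)) d
    ((S0380.result A I d).1 hcd q.asIdeal) (p.asIdeal.map (algebraMap A L)) fun Q hpQ hIQ => ?_)
  have h1 : Q.asIdeal.comap (algebraMap A L) ≤ P := by
    refine (Ideal.comap_mono (IsLocalRing.le_maximalIdeal Q.2.ne_top)).trans_eq ?_
    exact IsLocalization.AtPrime.comap_maximalIdeal L q.asIdeal
  have h2 : P ≤ Q.asIdeal.comap (algebraMap A L) := hP.2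
    ⟨Ideal.comap_isPrime _ _, sup_le (Ideal.map_le_iff_le_comap.1 hpQ) (Ideal.map_le_iff_le_comap.1 hIQ)⟩ h1
  have hQ : Q.asIdeal = IsLocalRing.maximalIdeal L := by
    rw [← Localization.AtPrime.map_eq_maximalIdeal, ← IsLocalization.map_under q.asIdeal.primeCompl L Q.asIdeal]
    exact congrArg (Ideal.map _) (le_antisymm h1 h2)
  exact hQ ▸ IsLocalRing.maximalIdeal.isMaximal L

/-- The comparison with the derived completion is bijective in low degrees for small ideals. -/
theorem exists_algebraization {ω : Dual.D A} (hω : Dual.IsDualizing A ω) (I : Ideal A) [IsAdicComplete I A]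
    [DRing.HasDerivedCompletion I] (J : Ideal A) (M : Type u) [AddCommGroup M] [Module A M] [Module.Finite A M]
    (s d : ℕ) (hcd : LocCoh.CdLE A I d) (T : Set (PrimeSpectrum A))
    (hT : ∀ p : PrimeSpectrum A, p ∈ T ↔ ∀ q : PrimeSpectrum A, p ≤ q → I ≤ q.asIdeal → J ≤ q.asIdeal)
    (h4 : ∀ p : PrimeSpectrum A, ¬ I ≤ p.asIdeal → p ∉ T → ∀ q : PrimeSpectrum A, p ≤ q → J ≤ q.asIdeal →
      I ≤ q.asIdeal → (s : ℕ∞) ≤ depthAt p M ∨
        (((d + s : ℕ) : ℕ∞) : WithBot ℕ∞) < ((depthAt p M : ℕ∞) : WithBot ℕ∞) + Formal2.dimBetween A p.asIdeal q.asIdeal) :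
    ∃ J₀ : Ideal A, J₀ ≤ J ∧ PrimeSpectrum.zeroLocus ((J₀ : Ideal A) : Set A) ∩ PrimeSpectrum.zeroLocus (I : Set A) =
        PrimeSpectrum.zeroLocus (J : Set A) ∩ PrimeSpectrum.zeroLocus (I : Set A) ∧
      ∀ (J' : Ideal A) [DRing.HasRgammaI J'], J' ≤ J₀ →
        PrimeSpectrum.zeroLocus ((J' : Ideal A) : Set A) ∩ PrimeSpectrum.zeroLocus (I : Set A) =
          PrimeSpectrum.zeroLocus (J : Set A) ∩ PrimeSpectrum.zeroLocus (I : Set A) →
        ∀ i : ℤ, i ≤ s → Function.Bijective ((DerivedCategory.homologyFunctor (ModuleCat.{u} A) i).map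
          (DRing.toDerivedCompletion I ((DRing.RgammaI J').obj (Dual.inD A M)))).hom := by
  classical
  haveI := TorsCoreflLib.hasRgammaI J
  obtain ⟨S, hS⟩ := exists_injRep_eq (Dual.inD A M) 0
  obtain ⟨J₁, hJ₁, hV₁, hk, n, hn⟩ := exists_carrier hω hT S hS
    (fun p _ hp => exists_dimBetween_le hcd hT p hp) h4
  let 𝔞 : Ideal A := ⨅ i : {i : ℤ // i ≤ (s : ℤ)}, Module.annihilator A (Dual.HD A (cX J I M) i.1)
  have hmem : ∀ g : A, g ∈ 𝔞 ↔ ∀ i : ℤ, i ≤ (s : ℤ) → ∀ y : Dual.HD A (cX J I M) i, g • y = 0 := fun g => by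
    simp only [𝔞, Submodule.mem_iInf, Module.mem_annihilator, Subtype.forall]
  have hbad : ∀ p : PrimeSpectrum A, ¬ I ≤ p.asIdeal → p ∉ T → ¬ 𝔞 ≤ p.asIdeal := fun p hpI hpT hle => by
    obtain ⟨r, hpr, hIr, hJr⟩ : ∃ r : PrimeSpectrum A, p ≤ r ∧ I ≤ r.asIdeal ∧ ¬ J ≤ r.asIdeal := by
      by_contra hc
      push Not at hc
      exact hpT ((hT p).2 hc)
    obtain ⟨g, hg, hk⟩ := killsNear_of_cond hω hcd s p r hpr hIr hJr M fun p' hp' q hq hJq hIq => by
      have h := h4 p' (fun h => hpI (h.trans hp'))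
        (fun h => hpT (stable_T hT ((PrimeSpectrum.le_iff_specializes p' p).1 hp') h)) q hq hJq hIq
      rwa [BootLib.dimBetween_eq hω hq, lt_add_coe_iff] at h
    exact hg (hle ((hmem g).2 hk))
  let F := (Ideal.finite_minimalPrimes_of_isNoetherianRing A 𝔞).toFinset.filter fun P => ¬ I ≤ P
  let J₀ : Ideal A := J₁ ⊓ F.inf id
  have hV : PrimeSpectrum.zeroLocus ((J₀ : Ideal A) : Set A) ∩ PrimeSpectrum.zeroLocus (I : Set A) =
      PrimeSpectrum.zeroLocus (J : Set A) ∩ PrimeSpectrum.zeroLocus (I : Set A) := by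
    refine le_antisymm (fun p hp => ⟨?_, hp.2⟩) fun p hp => ⟨PrimeSpectrum.zeroLocus_anti_mono
      ((inf_le_left : J₀ ≤ J₁).trans hJ₁) hp.1, hp.2⟩
    rw [PrimeSpectrum.mem_zeroLocus]
    rcases p.2.inf_le.1 ((PrimeSpectrum.mem_zeroLocus _ _).1 hp.1) with h | h
    · exact (PrimeSpectrum.mem_zeroLocus _ _).1 (hV₁.subset ⟨(PrimeSpectrum.mem_zeroLocus _ _).2 h, hp.2⟩).1
    · obtain ⟨P, hP, hPp⟩ := (Ideal.IsPrime.inf_le' p.2).1 h
      obtain ⟨hPm, hPI⟩ := Finset.mem_filter.1 hP
      rw [Set.Finite.mem_toFinset] at hPm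
      have hPT : (⟨P, hPm.1.1⟩ : PrimeSpectrum A) ∈ T := by
        by_contra hc
        exact hbad ⟨P, hPm.1.1⟩ hPI hc hPm.1.2
      exact (hT _).1 hPT p hPp ((PrimeSpectrum.mem_zeroLocus _ _).1 hp.2)
  have hrad : J₀ * I ≤ 𝔞.radical := by
    rw [← Ideal.sInf_minimalPrimes, le_sInf_iff]
    intro P hP
    by_cases hPI : I ≤ P
    · exact Ideal.mul_le_right.trans hPI
    · exact Ideal.mul_le_left.trans (inf_le_right.trans (Finset.inf_le (f := id)
        (Finset.mem_filter.2 ⟨(Set.Finite.mem_toFinset _).2 hP, hPI⟩)))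
  obtain ⟨m, hm⟩ := Ideal.exists_pow_le_of_le_radical_of_fg hrad (IsNoetherian.noetherian _)
  refine ⟨J₀, inf_le_left.trans hJ₁, hV, fun J' inst hJ' hV' i hi => ?_⟩
  have hle : (J' * I) ^ (n + m) ≤ (J₀ * I) ^ (n + m) := Ideal.pow_right_mono (Ideal.mul_mono hJ' le_rfl) _
  refine bijective_toDerivedCompletion I J' M s (n + m) (fun a ha j hj x => ?_) (fun a ha j hj x => ?_) i hi
  · have ha' : a ∈ (J₁ * I) ^ n :=
      Ideal.pow_le_pow_right (Nat.le_add_right n m)
        (Ideal.pow_right_mono (Ideal.mul_mono (inf_le_left : J₀ ≤ J₁) le_rfl) _ (hle ha))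
    have hkill : KillT S.E a T j := by
      rcases lt_or_ge j 0 with hneg | hnn
      · exact killT_neg S hS hneg a
      · obtain ⟨k, rfl⟩ := Int.eq_ofNat_of_zero_le hnn
        exact hn a ha' k (by exact_mod_cast hj)
    have hJT := zeroLocus_subset_T hT hV'
    have hb := bijective_inclT_zeroLocus (s := (s : ℤ)) (i := j) S.inj J' hJT
      (fun g hg => hk g ((inf_le_left : J₀ ≤ J₁) (hJ' hg))) hj
    obtain ⟨e⟩ := exists_iso_HD_RgammaI S J' j
    refine e.injective (hb.1 ?_)
    rw [map_smul, map_smul, map_zero, map_zero]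
    exact (killT_iff a).1 hkill _
  · obtain ⟨c⟩ := exists_cX_iso I J J' hV' M
    refine ((DerivedCategory.homologyFunctor (ModuleCat.{u} A) j).mapIso c).toLinearEquiv.injective ?_
    rw [map_smul, map_zero]
    exact (hmem a).1 (hm (Ideal.pow_le_pow_right (Nat.le_add_left m n) (hle ha))) j hj _

end Groth.Agent.FaltingsAnnLib
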