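import Groth.Agent.FaltingsAnnLib.Transfer
import Groth.Agent.BootLib.CompletionLoc

/-!
# Bootstrapping the annihilation of local cohomology
-/

set_option autoImplicit false
set_option linter.style.haveILetI false
set_option backward.isDefEq.respectTransparency false

universe u

open CategoryTheory
attribute [local instance] HasDerivedCategory.standard

noncomputable section

namespace Groth.Agent.FaltingsAnnLib

open DualCxLib (InjRep dfn)

variable {A : Type u} [CommRing A]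

/-- The depth of the localization of a module at a prime. -/
abbrev depthAt (p : PrimeSpectrum A) (M : Type u) [AddCommGroup M] [Module A M] : ℕ∞ :=
  LocCoh.depth (Localization.AtPrime p.asIdeal) (LocalizedModule p.asIdeal.primeCompl M)

theorem lt_add_coe_iff {s : ℕ} {D : ℕ∞} {h : ℕ} :
    ((s : ℕ∞) : WithBot ℕ∞) < ((D : ℕ∞) : WithBot ℕ∞) + ((h : ℕ) : WithBot ℕ∞) ↔ (s : ℕ∞) < D + h := by
  rw [show ((h : ℕ) : WithBot ℕ∞) = ((h : ℕ∞) : WithBot ℕ∞) from rfl, ← WithBot.coe_add, WithBot.coe_lt_coe]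

variable [IsNoetherianRing A] {ω : Dual.D A} (hω : Dual.IsDualizing A ω) {M : Type u} [AddCommGroup M] [Module A M]
  {I J : Ideal A} {T : Set (PrimeSpectrum A)}
  (hT : ∀ p : PrimeSpectrum A, p ∈ T ↔ ∀ q : PrimeSpectrum A, p ≤ q → I ≤ q.asIdeal → J ≤ q.asIdeal)

omit [IsNoetherianRing A] in
include hT in
theorem stable_T : StableUnderSpecialization T := fun p q hpq hp => (hT q).2 fun r hr => (hT p).1 hp r
  (((PrimeSpectrum.le_iff_specializes p q).2 hpq).trans hr)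

omit [IsNoetherianRing A] in
include hT in
theorem le_of_mem_T {p : PrimeSpectrum A} (hp : p ∈ T) (hI : I ≤ p.asIdeal) : J ≤ p.asIdeal :=
  (hT p).1 hp p le_rfl hI

omit [IsNoetherianRing A] in
include hT in
theorem zeroLocus_subset_T {J' : Ideal A}
    (h : PrimeSpectrum.zeroLocus (J' : Set A) ∩ PrimeSpectrum.zeroLocus (I : Set A) =
      PrimeSpectrum.zeroLocus (J : Set A) ∩ PrimeSpectrum.zeroLocus (I : Set A)) :
    PrimeSpectrum.zeroLocus (J' : Set A) ⊆ T := fun p hp => (hT p).2 fun q hpq hI => by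
  have hq : q ∈ PrimeSpectrum.zeroLocus (J : Set A) ∩ PrimeSpectrum.zeroLocus (I : Set A) := h ▸
    ⟨(PrimeSpectrum.mem_zeroLocus _ _).2 (((PrimeSpectrum.mem_zeroLocus _ _).1 hp).trans hpq),
      (PrimeSpectrum.mem_zeroLocus _ _).2 hI⟩
  exact (PrimeSpectrum.mem_zeroLocus _ _).1 hq.1

include hω hT in
/-- The depth condition away from `T ∪ V(I)`. -/
theorem crit_outside {s d : ℕ}
    (h3 : ∀ p : PrimeSpectrum A, ¬ I ≤ p.asIdeal → p ∈ T → ∃ q : PrimeSpectrum A, p ≤ q ∧ J ≤ q.asIdeal ∧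
      I ≤ q.asIdeal ∧ Formal2.dimBetween A p.asIdeal q.asIdeal ≤ ((d : ℕ∞) : WithBot ℕ∞))
    (h4 : ∀ p : PrimeSpectrum A, ¬ I ≤ p.asIdeal → p ∉ T → ∀ q : PrimeSpectrum A, p ≤ q → J ≤ q.asIdeal →
      I ≤ q.asIdeal → (s : ℕ∞) ≤ depthAt p M ∨
        (((d + s : ℕ) : ℕ∞) : WithBot ℕ∞) < ((depthAt p M : ℕ∞) : WithBot ℕ∞) + Formal2.dimBetween A p.asIdeal q.asIdeal)
    (p q : PrimeSpectrum A) (hpI : ¬ I ≤ p.asIdeal) (hp : p ∉ T) (hq : q ∈ T) (hpq : p ≤ q) :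
    (s : WithBot ℕ∞) < ((depthAt p M : ℕ∞) : WithBot ℕ∞) + Order.krullDim (Set.Icc p q) := by
  rw [krullDim_Icc_eq hω hpq, show (s : WithBot ℕ∞) = ((s : ℕ∞) : WithBot ℕ∞) from rfl, lt_add_coe_iff]
  have hlt : dfn hω p < dfn hω q := DualCxLib.dfn_lt hω (lt_of_le_of_ne hpq fun e => hp (e ▸ hq))
  cases hD : depthAt p M with
  | top => rw [top_add]; exact ENat.natCast_lt_top s
  | coe D =>
    norm_cast
    obtain ⟨q', hqq', hJ, hI, hd⟩ : ∃ q' : PrimeSpectrum A, q ≤ q' ∧ J ≤ q'.asIdeal ∧ I ≤ q'.asIdeal ∧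
        (dfn hω q' - dfn hω q).toNat ≤ d := by
      by_cases hqI : I ≤ q.asIdeal
      · exact ⟨q, le_rfl, le_of_mem_T hT hq hqI, hqI, by simp⟩
      · obtain ⟨q', hqq', hJ, hI, hd⟩ := h3 q hqI hq
        rw [BootLib.dimBetween_eq hω hqq'] at hd
        exact ⟨q', hqq', hJ, hI, by exact_mod_cast hd⟩
    have := DualCxLib.dfn_le hω hqq'
    rcases h4 p hpI hp q' (hpq.trans hqq') hJ hI with h | h
    · rw [hD] at h
      have : s ≤ D := by exact_mod_cast h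
      omega
    · rw [hD, BootLib.dimBetween_eq hω (hpq.trans hqq'), lt_add_coe_iff] at h
      have : d + s < D + (dfn hω q' - dfn hω p).toNat := by exact_mod_cast h
      omega

variable {s : ℕ} (S : InjRep (Dual.inD A M)) (hS : S.a = 0)

include hS in
theorem killT_le_of_nat {Q : Ideal A} (hk : ∀ i : ℕ, i ≤ s → ∀ x ∈ Q, KillT S.E x T i) (i : ℤ)
    (hi : i ≤ (s : ℤ)) (x : A) (hx : x ∈ Q) : KillT S.E x T i := by
  rcases lt_or_ge i 0 with hneg | hnn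
  · exact killT_neg S hS hneg x
  · obtain ⟨k, rfl⟩ := Int.eq_ofNat_of_zero_le hnn
    exact hk k (by exact_mod_cast hi) x hx

include hS in
/-- Classes are killed by powers of the elements vanishing on the support of the annihilator. -/
theorem pow_kill {Q : Ideal A} (hk : ∀ i : ℕ, i ≤ s → ∀ x ∈ Q, KillT S.E x T i) {g : A}
    (hg : ∀ p ∈ T, Q ≤ p.asIdeal → g ∈ p.asIdeal) (j : ℤ) (hj : j ≤ (s : ℤ)) (x : HYT S.E T j) :
    ∃ n : ℕ, g ^ n • x = 0 :=
  exists_pow_smul_eq_zero (killT_le_of_nat S hS hk j hj) hg x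

/-- Killing transfers along the comparison with a closed support. -/
theorem smul_H_eq_zero {J₀ : Ideal A} (hJT : PrimeSpectrum.zeroLocus (J₀ : Set A) ⊆ T) {i : ℕ}
    (hb : Function.Bijective (inclT (Y := S.E) (i := (i : ℤ)) hJT)) {a : A} (ha : KillT S.E a T i)
    (x : LocCoh.H J₀ i M) : a • x = 0 := by
  refine (eH S J₀ i).injective (hb.1 ?_)
  rw [map_smul, map_smul, map_zero, map_zero]
  exact (killT_iff a).1 ha _

include hω hS hT in
/-- An ideal carrying the local cohomology with supports in `T`. -/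
theorem exists_carrier [Module.Finite A M] {d : ℕ}
    (h3 : ∀ p : PrimeSpectrum A, ¬ I ≤ p.asIdeal → p ∈ T → ∃ q : PrimeSpectrum A, p ≤ q ∧ J ≤ q.asIdeal ∧
      I ≤ q.asIdeal ∧ Formal2.dimBetween A p.asIdeal q.asIdeal ≤ ((d : ℕ∞) : WithBot ℕ∞))
    (h4 : ∀ p : PrimeSpectrum A, ¬ I ≤ p.asIdeal → p ∉ T → ∀ q : PrimeSpectrum A, p ≤ q → J ≤ q.asIdeal →
      I ≤ q.asIdeal → (s : ℕ∞) ≤ depthAt p M ∨
        (((d + s : ℕ) : ℕ∞) : WithBot ℕ∞) < ((depthAt p M : ℕ∞) : WithBot ℕ∞) + Formal2.dimBetween A p.asIdeal q.asIdeal) :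
    ∃ J₀ : Ideal A, J₀ ≤ J ∧ PrimeSpectrum.zeroLocus ((J₀ : Ideal A) : Set A) ∩ PrimeSpectrum.zeroLocus (I : Set A) =
        PrimeSpectrum.zeroLocus (J : Set A) ∩ PrimeSpectrum.zeroLocus (I : Set A) ∧
      (∀ g ∈ J₀, ∀ j ≤ (s : ℤ), ∀ x : HYT S.E T j, ∃ n : ℕ, g ^ n • x = 0) ∧
      ∃ n : ℕ, ∀ a ∈ (J₀ * I) ^ n, ∀ i : ℕ, i ≤ s → KillT S.E a T i := by
  classical
  have hTst := stable_T hT
  have hT'st : StableUnderSpecialization (T ∪ PrimeSpectrum.zeroLocus (I : Set A)) := fun p q hpq hp =>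
    hp.imp (hTst hpq) (fun h => (PrimeSpectrum.isClosed_zeroLocus _).stableUnderSpecialization hpq h)
  obtain ⟨Q, hQ, hk⟩ := (annihilator_module T ⟨ω, hω⟩ hTst hT'st s M S hS).2 fun p q hp hq hpq =>
    crit_outside hω hT h3 h4 p q (fun h => hp (Or.inr ((PrimeSpectrum.mem_zeroLocus _ _).2 h)))
      (fun h => hp (Or.inl h)) hq hpq
  let F := (Ideal.finite_minimalPrimes_of_isNoetherianRing A Q).toFinset.filter fun P => ¬ I ≤ P
  let J₀ : Ideal A := J ⊓ F.inf id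
  have hF : ∀ P ∈ F, ∃ hP : P.IsPrime, (⟨P, hP⟩ : PrimeSpectrum A) ∈ T := fun P hP => by
    obtain ⟨hPm, hPI⟩ := Finset.mem_filter.1 hP
    rw [Set.Finite.mem_toFinset] at hPm
    refine ⟨hPm.1.1, (hQ ((PrimeSpectrum.mem_zeroLocus _ _).2 hPm.1.2 : (⟨P, hPm.1.1⟩ : PrimeSpectrum A) ∈ _)).resolve_right
      fun h => hPI ((PrimeSpectrum.mem_zeroLocus _ _).1 h)⟩
  have hcar : ∀ p : PrimeSpectrum A, Q ≤ p.asIdeal → I ≤ p.asIdeal ∨ J₀ ≤ p.asIdeal := fun p hp => by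
    obtain ⟨P, hPm, hPp⟩ := Ideal.exists_minimalPrimes_le hp
    by_cases hPI : I ≤ P
    · exact Or.inl (hPI.trans hPp)
    · have hPF : P ∈ F := Finset.mem_filter.2 ⟨(Set.Finite.mem_toFinset _).2 hPm, hPI⟩
      exact Or.inr ((inf_le_right.trans (Finset.inf_le hPF)).trans hPp)
  refine ⟨J₀, inf_le_left, ?_, fun g hg j hj x => pow_kill S hS hk (fun p hp hQp => ?_) j hj x, ?_⟩
  · refine le_antisymm (fun p hp => ⟨?_, hp.2⟩) fun p hp => ⟨PrimeSpectrum.zeroLocus_anti_mono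
      (inf_le_left : J₀ ≤ J) hp.1, hp.2⟩
    rw [PrimeSpectrum.mem_zeroLocus]
    rcases p.2.inf_le.1 ((PrimeSpectrum.mem_zeroLocus _ _).1 hp.1) with h | h
    · exact h
    · obtain ⟨P, hP, hPp⟩ := (Ideal.IsPrime.inf_le' p.2).1 h
      obtain ⟨hPprime, hPT⟩ := hF P hP
      exact le_of_mem_T hT (hTst ((PrimeSpectrum.le_iff_specializes ⟨P, hPprime⟩ p).1 hPp) hPT)
        ((PrimeSpectrum.mem_zeroLocus _ _).1 hp.2)
  · exact (hcar p hQp).elim (fun h => le_of_mem_T hT hp h ((inf_le_left : J₀ ≤ J) hg)) fun h => h hg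
  · have hrad : J₀ * I ≤ Q.radical := by
      rw [Ideal.radical_eq_sInf, le_sInf_iff]
      rintro P ⟨hle, hP⟩
      exact (hcar ⟨P, hP⟩ hle).elim (fun h => Ideal.mul_le_right.trans h) fun h => Ideal.mul_le_left.trans h
    obtain ⟨n, hn⟩ := Ideal.exists_pow_le_of_le_radical_of_fg hrad (IsNoetherian.noetherian _)
    exact ⟨n, fun a ha i hi => hk i hi a (hn ha)⟩

end Groth.Agent.FaltingsAnnLib
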