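import Groth.Agent.FaltingsAnnLib.Main
import Groth.Agent.TorsCoreflLib.GM
import Groth.Agent.TorsCoreflLib.Change
import Groth.Agent.DualCxLib.Crit

/-!
# Annihilation of the derived completion of local cohomology
-/

set_option autoImplicit false
set_option linter.style.haveILetI false
set_option backward.isDefEq.respectTransparency false

universe u

open CategoryTheory Limits Pretriangulated
attribute [local instance] HasDerivedCategory.standard

noncomputable section

namespace Groth.Agent.FaltingsAnnLib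

open DualCxLib (InjRep ltTri ltTri_mem)
open TorsCoreflLib (PT NoTors NoCompl map_smul_id)

variable {A : Type u} [CommRing A]

theorem homology_map_smul (f : A) {X Y : Dual.D A} (φ : X ⟶ Y) (j : ℤ) :
    (DerivedCategory.homologyFunctor (ModuleCat.{u} A) j).map (f • φ) =
      f • (DerivedCategory.homologyFunctor (ModuleCat.{u} A) j).map φ := by
  rw [show f • φ = (f • 𝟙 X) ≫ φ by rw [Linear.smul_comp, Category.id_comp], Functor.map_comp, map_smul_id,
    Linear.smul_comp, Category.id_comp]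

/-- A scalar kills `H⁰` if it kills the morphisms out of the unit. -/
theorem smul_HD_zero_eq_zero {X : Dual.D A} (f : A) (h : ∀ φ : Dual.inD A A ⟶ X, f • φ = 0)
    (x : Dual.HD A X 0) : f • x = 0 := by
  obtain ⟨φ, hφ⟩ := (DComplLib.bijective_toH0 (ModuleCat.of A A) X).2
    (ModuleCat.ofHom (LinearMap.toSpanSingleton A _ x))
  have h0 : DComplLib.toH0 (ModuleCat.of A A) X (f • φ) = 0 := by
    rw [DComplLib.toH0, show f • φ = 0 from h φ, Functor.map_zero, comp_zero]
  rw [DComplLib.toH0, homology_map_smul, Linear.comp_smul] at h0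
  change f • DComplLib.toH0 (ModuleCat.of A A) X φ = 0 at h0
  rw [hφ] at h0
  have h1 : f • (LinearMap.toSpanSingleton A (Dual.HD A X 0) x) (1 : A) = 0 := congr($(h0).hom (1 : A))
  rwa [LinearMap.toSpanSingleton_apply_one] at h1

/-- A scalar kills `H^i` if it kills the morphisms out of the shifted unit. -/
theorem smul_HD_eq_zero {X : Dual.D A} (f : A) (i : ℤ) (h : ∀ φ : (Dual.inD A A)⟦-i⟧ ⟶ X, f • φ = 0)
    (x : Dual.HD A X i) : f • x = 0 := by
  let adj := (shiftEquiv' (Dual.D A) (-i) i (neg_add_cancel i)).toAdjunction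
  obtain ⟨y, rfl⟩ := (DComplLib.hShiftEquiv X i).surjective x
  rw [← map_smul, smul_HD_zero_eq_zero f (fun φ => ?_) y, map_zero]
  have h1 := h ((adj.homEquiv _ _).symm φ)
  apply (adj.homEquiv _ _).symm.injective
  show (shiftFunctor (Dual.D A) (-i)).map (f • φ) ≫ adj.counit.app X =
    (shiftFunctor (Dual.D A) (-i)).map 0 ≫ adj.counit.app X
  rw [Functor.map_zero, zero_comp, Functor.map_smul, Linear.smul_comp]
  exact h1

/-- A bounded object whose cohomology is killed by a scalar is killed by its powers. -/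
theorem pow_smul_id {g : A} : ∀ (k : ℕ) (a : ℤ) (X : Dual.D A), X.IsGE a → X.IsLE (a + k - 1) →
    (∀ (j : ℤ) (x : Dual.HD A X j), g • x = 0) → g ^ k • 𝟙 X = 0
  | 0, a, X, hge, hle, _ => by
    rw [pow_zero, one_smul]
    exact DerivedCategory.TStructure.t.zero_of_isLE_of_isGE (𝟙 X) (a + ((0 : ℕ) : ℤ) - 1) a (by omega) hle hge
  | k + 1, a, X, hge, hle, hg => by
    haveI := hge
    let n : ℤ := a + k
    haveI : X.IsLE n := by
      rw [show n = a + ((k + 1 : ℕ) : ℤ) - 1 by push_cast; omega]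
      exact hle
    let T := ltTri n X
    haveI : DerivedCategory.IsGE T.obj₃ n := (DerivedCategory.isGE_iff _ n).2 fun j hj =>
      DualCxLib.HD_ltTri₃_of_lt n X hj
    haveI hle' : DerivedCategory.IsLE T.obj₁ (a + k - 1) := (DerivedCategory.isLE_iff _ _).2 fun j hj =>
      DualCxLib.HD_ltTri₁_of_le n X (by omega)
    haveI hge' : DerivedCategory.IsGE T.obj₁ a := SiteCmpLib.isGE_truncLT X a n
    have h3 : (g • 𝟙 X) ≫ T.mor₂ = 0 := CohDerLim.eq_zero_of_homology n _ (by
      ext x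
      rw [Functor.map_comp, map_smul_id]
      show ((DerivedCategory.homologyFunctor (ModuleCat.{u} A) n).map T.mor₂).hom (g • x) = 0
      rw [hg n x, map_zero])
    obtain ⟨v, hv⟩ := Triangle.coyoneda_exact₂ T (ltTri_mem n X) (g • 𝟙 X) h3
    have hg' : ∀ (j : ℤ) (x : Dual.HD A T.obj₁ j), g • x = 0 := fun j x => by
      by_cases hj : j ≤ n
      · refine DualCxLib.HD_ltTri₁_injective n X hj ?_
        rw [map_smul, map_zero]
        exact hg j _
      · haveI := ModuleCat.subsingleton_of_isZero (DualCxLib.HD_ltTri₁_of_le n X (j := j) (by omega))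
        exact Subsingleton.elim _ _
    have h1 : (g ^ k • 𝟙 T.obj₁) ≫ T.mor₁ = 0 := by
      rw [pow_smul_id k a T.obj₁ hge' hle' hg', zero_comp]
    rw [Linear.smul_comp, Category.id_comp] at h1
    calc g ^ (k + 1) • 𝟙 X = g ^ k • (g • 𝟙 X) := by rw [pow_succ, mul_smul]
      _ = v ≫ (g ^ k • T.mor₁) := by rw [hv, Linear.comp_smul]
      _ = 0 := by rw [h1, comp_zero]

/-- Morphisms from an object bounded above to an object bounded below, with cohomology killed in the
relevant range. -/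
theorem pow_smul_hom {g : A} (k : ℕ) (a n : ℤ) (hk : a + k - 1 = n) {T X : Dual.D A} [hT : T.IsLE n] [hX : X.IsGE a]
    (hg : ∀ j ≤ n, ∀ x : Dual.HD A X j, g • x = 0) (φ : T ⟶ X) : g ^ k • φ = 0 := by
  let U := ltTri (n + 1) X
  have h3 : φ ≫ U.mor₂ = 0 := DerivedCategory.TStructure.t.zero_of_isLE_of_isGE _ n (n + 1) (by omega) hT
    ((DerivedCategory.isGE_iff _ (n + 1)).2 fun j hj => DualCxLib.HD_ltTri₃_of_lt (n + 1) X hj)
  obtain ⟨v, hv⟩ := Triangle.coyoneda_exact₂ U (ltTri_mem (n + 1) X) φ h3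
  have hle : DerivedCategory.IsLE U.obj₁ (a + k - 1) := (DerivedCategory.isLE_iff _ _).2 fun j hj =>
    DualCxLib.HD_ltTri₁_of_le (n + 1) X (by omega)
  have hg' : ∀ (j : ℤ) (x : Dual.HD A U.obj₁ j), g • x = 0 := fun j x => by
    by_cases hj : j ≤ n
    · refine DualCxLib.HD_ltTri₁_injective (n + 1) X (show j ≤ n + 1 by omega) ?_
      rw [map_smul, map_zero]
      exact hg j hj _
    · haveI := ModuleCat.subsingleton_of_isZero (DualCxLib.HD_ltTri₁_of_le (n + 1) X (j := j) (by omega))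
      exact Subsingleton.elim _ _
  have h1 : (g ^ k • 𝟙 U.obj₁) ≫ U.mor₁ = 0 := by
    rw [pow_smul_id k a U.obj₁ (SiteCmpLib.isGE_truncLT X a (n + 1)) hle hg', zero_comp]
  rw [Linear.smul_comp, Category.id_comp] at h1
  rw [hv, ← Linear.comp_smul, h1, comp_zero]

variable [IsNoetherianRing A]

/-- `RΓ_I A` is concentrated in degrees `≤ d` when `cd(A, I) ≤ d`. -/
theorem isLE_RgammaI_unit (I : Ideal A) [DRing.HasRgammaI I] {d : ℕ} (hcd : LocCoh.CdLE A I d) :
    DerivedCategory.IsLE ((DRing.RgammaI I).obj (Dual.inD A A)) d := by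
  obtain ⟨S, hS⟩ := exists_injRep_eq (Dual.inD A A) 0
  refine (DerivedCategory.isLE_iff _ _).2 fun j hj => ?_
  obtain ⟨m, rfl⟩ := Int.eq_ofNat_of_zero_le (show 0 ≤ j by omega)
  obtain ⟨e₁⟩ := DualCxLib.nonempty_HD_RgammaI I (Dual.inD A A) (m : ℤ)
  obtain ⟨e₂⟩ := exists_HDI_equiv S I (m : ℤ)
  obtain ⟨e₃⟩ := exists_H_equiv S I m
  haveI := hcd A m (by exact_mod_cast hj)
  haveI : Subsingleton (Dual.HD A ((DRing.RgammaI I).obj (Dual.inD A A)) m) :=
    (e₁.trans (e₂.trans e₃.symm)).toEquiv.subsingleton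
  exact ModuleCat.isZero_of_subsingleton _

/-- Cohomology of a derived completion is killed by powers of a scalar killing the torsion part in low degrees. -/
theorem pow_smul_completion (I : Ideal A) [DRing.HasRgammaI I] [DRing.HasDerivedCompletion I] {d : ℕ}
    (hcd : LocCoh.CdLE A I d) (X : Dual.D A) [hge : DerivedCategory.IsGE ((DRing.RgammaI I).obj X) 0] (g : A) (s : ℕ)
    (hg : ∀ j ≤ ((d + s : ℕ) : ℤ), ∀ x : Dual.HD A ((DRing.RgammaI I).obj X) j, g • x = 0) (i : ℤ) (hi : i ≤ s)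
    (x : Dual.HD A ((DRing.derivedCompletion I).obj X).obj i) : g ^ (d + s + 1) • x = 0 := by
  refine smul_HD_eq_zero _ i (fun φ => ?_) x
  let η := DRing.toDerivedCompletion I X
  let ε := (DRing.RgammaIε I).app (Dual.inD A A)
  have hη := DComplLib.isCompl_toDerivedCompletion (I := I) X
  let R := ((DRing.RgammaI I).obj (Dual.inD A A))⟦-i⟧
  have hR : PT I R := TorsCoreflLib.tors_shift I (TorsCoreflLib.torsion_RgammaI I _) (-i)
  obtain ⟨C, π, δ, hT⟩ := distinguished_cocone_triangle η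
  have hC : NoTors I C := TorsCoreflLib.noTors_of_noCompl I (TorsCoreflLib.yoneda₃_zero I hT hη.bij)
  obtain ⟨C', π', δ', hT'⟩ := distinguished_cocone_triangle ε
  have hC' : NoCompl I C' := TorsCoreflLib.noCompl_of_noTors I
    (TorsCoreflLib.coyoneda₃_zero I hT' fun T hTT => TorsCoreflLib.comp_ε_bijective I T _ hTT)
  have hb := DComplLib.bijective_precomp_shift ε (-i)
    (fun E hE => TorsCoreflLib.precomp_bijective I hT' hC' hE) ((DRing.derivedCompletion I).obj X).obj hη.mem
  apply hb.1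
  show ε⟦-i⟧' ≫ (g ^ (d + s + 1) • φ) = ε⟦-i⟧' ≫ 0
  rw [comp_zero, Linear.comp_smul]
  obtain ⟨ψ, hψ⟩ := (TorsCoreflLib.postcomp_bijective I hT hC hR).2 (ε⟦-i⟧' ≫ φ)
  change ψ ≫ η = _ at hψ
  obtain ⟨χ, hχ⟩ := (TorsCoreflLib.comp_ε_bijective I R X hR).2 ψ
  change χ ≫ _ = _ at hχ
  haveI := isLE_RgammaI_unit I hcd
  haveI : DerivedCategory.IsLE R ((d + s : ℕ) : ℤ) := (DerivedCategory.isLE_iff _ _).2 fun j hj => by
    haveI : Subsingleton (Dual.HD A R j) := by
      haveI := ModuleCat.subsingleton_of_isZero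
        (DerivedCategory.isZero_of_isLE ((DRing.RgammaI I).obj (Dual.inD A A)) d (-i + j) (by push_cast at hj ⊢; omega))
      exact ((DComplLib.hShiftEquiv R j).symm ≪≫ₗ
        ((DerivedCategory.homologyFunctor (ModuleCat.{u} A) 0).mapIso
          ((shiftFunctorAdd' (Dual.D A) (-i) j (-i + j) rfl).symm.app _)).toLinearEquiv ≪≫ₗ
        DComplLib.hShiftEquiv ((DRing.RgammaI I).obj (Dual.inD A A)) (-i + j)).toEquiv.subsingleton
    exact ModuleCat.isZero_of_subsingleton _
  have h0 := pow_smul_hom (d + s + 1) 0 ((d + s : ℕ) : ℤ) (by push_cast; omega) hg χ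
  rw [← hψ, ← hχ, ← Linear.smul_comp, ← Linear.smul_comp, h0, zero_comp, zero_comp]

variable {M : Type u} [AddCommGroup M] [Module A M] [Module.Finite A M]

/-- The annihilator of the derived completion of local cohomology. -/
theorem exists_smul_completion (hA : ∃ ω : Dual.D A, Dual.IsDualizing A ω) (I J : Ideal A) [DRing.HasRgammaI J]
    [DRing.HasDerivedCompletion I] (p : PrimeSpectrum A) (s d : ℕ) (hcd : LocCoh.CdLE A I d)
    (h : ∀ p' q : PrimeSpectrum A, p' ≤ p → J ≤ q.asIdeal → I ≤ q.asIdeal → p' ≤ q →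
      ((d + s : ℕ) : WithBot ℕ∞) < ((LocCoh.depth (Localization.AtPrime p'.asIdeal)
        (LocalizedModule p'.asIdeal.primeCompl M) : ℕ∞) : WithBot ℕ∞) + Order.krullDim (Set.Icc p' q)) :
    ∃ f : A, f ∉ p.asIdeal ∧
      ∀ i : ℤ, i ≤ s → ∀ x : Dual.HD A ((DRing.derivedCompletion I).obj ((DRing.RgammaI J).obj (Dual.inD A M))).obj i,
        f • x = 0 := by
  haveI := TorsCoreflLib.hasRgammaI I
  haveI := TorsCoreflLib.hasRgammaI (J ⊔ I)
  obtain ⟨S, hS⟩ := exists_injRep_eq (Dual.inD A M) 0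
  let T := PrimeSpectrum.zeroLocus ((J ⊔ I : Ideal A) : Set A)
  have hT : StableUnderSpecialization T := (PrimeSpectrum.isClosed_zeroLocus _).stableUnderSpecialization
  have hT' : StableUnderSpecialization {P : PrimeSpectrum A | ¬ P ≤ p} := fun P Q hPQ hP hQ =>
    hP (((PrimeSpectrum.le_iff_specializes P Q).2 hPQ).trans hQ)
  obtain ⟨Q, hQ, hk⟩ := (annihilator_module T hA (T' := {P : PrimeSpectrum A | ¬ P ≤ p}) hT hT' (d + s) M S hS).2
    fun p' q hp' hq hpq => by
      have hq' : J ⊔ I ≤ q.asIdeal := (PrimeSpectrum.mem_zeroLocus _ _).1 hq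
      exact h p' q (of_not_not hp') (le_sup_left.trans hq') (le_sup_right.trans hq') hpq
  obtain ⟨g, hg, hgp⟩ := SetLike.not_le_iff_exists.1 fun hle : Q ≤ p.asIdeal =>
    hQ ((PrimeSpectrum.mem_zeroLocus _ _).2 hle) le_rfl
  refine ⟨g ^ (d + s + 1), fun h => hgp (p.2.mem_of_pow_mem _ h), fun i hi x => ?_⟩
  obtain ⟨c⟩ := DualCxLib.nonempty_RgammaI_RgammaI J I (Dual.inD A M)
  have e : ∀ j : ℤ, Nonempty (Dual.HD A ((DRing.RgammaI I).obj ((DRing.RgammaI J).obj (Dual.inD A M))) j ≃ₗ[A]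
      HYT S.E T j) := fun j => by
    obtain ⟨e₁⟩ := DualCxLib.nonempty_HD_RgammaI (J ⊔ I) (Dual.inD A M) j
    obtain ⟨e₂⟩ := exists_HDI_equiv S (J ⊔ I) j
    exact ⟨((DerivedCategory.homologyFunctor (ModuleCat.{u} A) j).mapIso c).toLinearEquiv.trans (e₁.trans e₂)⟩
  haveI : DerivedCategory.IsGE ((DRing.RgammaI I).obj ((DRing.RgammaI J).obj (Dual.inD A M))) 0 :=
    isGE_of_subsingleton _ 0 fun j hj => subsingleton_of_forall_eq 0 fun y => by
      have := (killT_iff_equiv (e j).some 1).1 (killT_neg S hS hj 1) y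
      rwa [one_smul] at this
  refine pow_smul_completion I hcd _ g s (fun j hj => ?_) i hi x
  have hkj : KillT S.E g T j := by
    rcases lt_or_ge j 0 with hneg | hnn
    · exact killT_neg S hS hneg g
    · obtain ⟨k, rfl⟩ := Int.eq_ofNat_of_zero_le hnn
      exact hk k (by exact_mod_cast hj) g hg
  exact (killT_iff_equiv (e j).some g).1 hkj

end Groth.Agent.FaltingsAnnLib
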