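import Groth.Agent.FaltingsAnnLib.Local

/-!
# The annihilator theorem
-/

set_option autoImplicit false
set_option linter.style.haveILetI false
set_option backward.isDefEq.respectTransparency false

universe u

open CategoryTheory IsLocalRing
attribute [local instance] HasDerivedCategory.standard

noncomputable section

namespace Groth.Agent.FaltingsAnnLib

open DualCxLib (ZeroAt InjRep dfn model)

variable {A : Type u} [CommRing A] [IsNoetherianRing A] {ω : Dual.D A} (hω : Dual.IsDualizing A ω)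

theorem exists_uniform {I : Ideal A} {P : Ideal A} [P.IsPrime] (hP : P ∈ I.minimalPrimes) :
    ∃ t ∉ P, ∃ N : ℕ, ∀ x ∈ P, t * x ^ N ∈ I := by
  classical
  have hfin := Ideal.finite_minimalPrimes_of_isNoetherianRing A I
  let others := hfin.toFinset.erase P
  have hne : ∀ Q ∈ others, ¬ Q ≤ P := fun Q hQ hle => by
    obtain ⟨hQP, hQm⟩ := Finset.mem_erase.1 hQ
    rw [Set.Finite.mem_toFinset] at hQm
    exact hQP (le_antisymm hle (hP.2 hQm.1 hle))
  choose! e he heP using fun Q hQ => SetLike.not_le_iff_exists.1 (hne Q hQ)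
  let t0 := ∏ Q ∈ others, e Q
  have ht0 : t0 ∉ P := fun h => by
    obtain ⟨Q, hQ, h'⟩ := Ideal.IsPrime.prod_mem_iff.1 h
    exact heP Q hQ h'
  have hrad : P * Ideal.span {t0} ≤ I.radical := by
    rw [← Ideal.sInf_minimalPrimes, le_sInf_iff]
    intro Q hQ
    by_cases hQP : Q = P
    · exact hQP ▸ Ideal.mul_le_left
    · have hQ' : Q ∈ others := Finset.mem_erase.2 ⟨hQP, hfin.mem_toFinset.2 hQ⟩
      exact Ideal.mul_le_right.trans ((Ideal.span_singleton_le_iff_mem _).2
        (Ideal.prod_le_inf.trans (Finset.inf_le hQ') (Ideal.prod_mem_prod fun Q hQ => he Q hQ)))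
  obtain ⟨N, hN⟩ := Ideal.exists_pow_le_of_le_radical_of_fg hrad (IsNoetherian.noetherian _)
  refine ⟨t0 ^ N, fun h => ht0 (Ideal.IsPrime.mem_of_pow_mem ‹_› N h), N, fun x hx => hN ?_⟩
  rw [← mul_pow, mul_comm t0 x]
  exact Ideal.pow_mem_pow (Ideal.mul_mem_mul hx (Ideal.mem_span_singleton_self t0)) N

theorem KillT.add {Y : DRing.Cx A} {a b : A} {T : Set (PrimeSpectrum A)} {i : ℤ} (ha : KillT Y a T i)
    (hb : KillT Y b T i) : KillT Y (a + b) T i := fun y hy hd => by
  obtain ⟨v, hv, e⟩ := ha y hy hd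
  obtain ⟨w, hw, e'⟩ := hb y hy hd
  exact ⟨v + w, add_mem hv hw, by rw [map_add, e, e', add_smul]⟩

/-- A power of an ideal killing at every point kills with supports. -/
theorem killT_pow_of_killAt {Y : DRing.Cx A} (hinj : ∀ i, Module.Injective A (Y.X i)) {T : Set (PrimeSpectrum A)}
    (hT : StableUnderSpecialization T) (f : PrimeSpectrum A → ℤ) (hf : StrictMono f) {i : ℤ} (lo : ℤ) :
    ∀ n : ℕ, (∀ q ∈ T, f q < lo + n) → ∀ J : Ideal A, (∀ y ∈ J, ∀ q ∈ T, KillAt Y y q i) →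
      ∀ x ∈ J ^ n, KillT Y x {q | q ∈ T ∧ lo ≤ f q} i
  | 0, hn, J, _, x, _ => by
    rw [show {q | q ∈ T ∧ lo ≤ f q} = (∅ : Set (PrimeSpectrum A)) from Set.eq_empty_iff_forall_notMem.2
      fun q hq => by have := hn q hq.1; have := hq.2; push_cast at *; omega]
    exact killT_empty _ i
  | n + 1, hn, J, hk, x, hx => by
    rw [pow_succ] at hx
    refine Submodule.mul_induction_on hx (fun a ha b hb => ?_) fun a b ha hb => ha.add hb
    refine killT_glue hinj (U := {q | q ∈ T ∧ lo ≤ f q}) (U' := {q | q ∈ T ∧ lo + 1 ≤ f q})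
      (fun q hq => ⟨hq.1, by have := hq.2; omega⟩) ?_ ?_ (fun q hq => hk b hb q hq.1.1)
      (killT_pow_of_killAt hinj hT f hf (lo + 1) n (fun q hq => by have := hn q hq; push_cast at *; omega) J hk a ha)
    · intro x z hxz hx
      exact ⟨hT hxz hx.1, hx.2.trans (hf.monotone ((PrimeSpectrum.le_iff_specializes x z).2 hxz))⟩
    · intro q hq p hqp
      refine ⟨hT ((PrimeSpectrum.le_iff_specializes q p).1 hqp.le) hq.1.1, ?_⟩
      have := hq.1.2
      have := hf hqp
      omega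

/-- Elements pushing a finite module into the part vanishing on a family of primes. -/
theorem exists_ideal_kill {T' : Set (PrimeSpectrum A)} (hT' : StableUnderSpecialization T') {N : Type*}
    [AddCommGroup N] [Module A N] [Module.Finite A N] (Q : Set (PrimeSpectrum A))
    (h : ∀ p ∉ T', ∀ q ∈ Q, p ≤ q → ZeroAt p.asIdeal N) :
    ∃ J : Ideal A, PrimeSpectrum.zeroLocus (J : Set A) ⊆ T' ∧
      ∀ a ∈ J, ∀ n : N, ∀ q ∈ Q, ∃ s ∉ q.asIdeal, (s * a) • n = 0 := by
  classical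
  let I : N → Ideal A := fun n =>
    { carrier := {a | ∀ q ∈ Q, ∃ s ∉ q.asIdeal, (s * a) • n = 0}
      zero_mem' := fun q _ => ⟨1, one_notMem q, by rw [mul_zero, zero_smul]⟩
      add_mem' := fun {a b} ha hb q hq => by
        obtain ⟨s, hs, hs0⟩ := ha q hq
        obtain ⟨t, ht, ht0⟩ := hb q hq
        exact ⟨s * t, q.2.mul_notMem hs ht, by
          rw [mul_add, add_smul, show s * t * a = t * (s * a) by ring, show s * t * b = s * (t * b) by ring,
            mul_smul t (s * a) n, hs0, smul_zero, zero_add, mul_smul s (t * b) n, ht0, smul_zero]⟩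
      smul_mem' := fun c a ha q hq => by
        obtain ⟨s, hs, hs0⟩ := ha q hq
        exact ⟨s, hs, by rw [smul_eq_mul, show s * (c * a) = c * (s * a) by ring, mul_smul, hs0, smul_zero]⟩ }
  have hI : ∀ n, PrimeSpectrum.zeroLocus (I n : Set A) ⊆ T' := fun n p hp => by
    by_contra hpT
    obtain ⟨P, hPm, hPp⟩ := Ideal.exists_minimalPrimes_le ((PrimeSpectrum.mem_zeroLocus _ _).1 hp)
    haveI : P.IsPrime := hPm.1.1
    let P' : PrimeSpectrum A := ⟨P, hPm.1.1⟩
    have hPT : P' ∉ T' := fun h => hpT (hT' ((PrimeSpectrum.le_iff_specializes P' p).1 hPp) h)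
    by_cases hex : ∃ q ∈ Q, P' ≤ q
    · obtain ⟨q, hq, hle⟩ := hex
      obtain ⟨t, ht, ht0⟩ := h P' hPT q hq hle n
      exact ht (hPm.1.2 fun r _ => ⟨1, one_notMem r, by rw [one_mul, ht0]⟩)
    · obtain ⟨t, ht, k, hk⟩ := exists_uniform hPm
      refine ht (hPm.1.2 fun q hq => ?_)
      obtain ⟨x, hx, hxq⟩ := SetLike.not_le_iff_exists.1 fun hle : P ≤ q.asIdeal => hex ⟨q, hq, hle⟩
      obtain ⟨s, hs, hs0⟩ := hk x hx q hq
      refine ⟨s * x ^ k, q.2.mul_notMem hs fun hc => hxq (q.2.mem_of_pow_mem _ hc), ?_⟩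
      rw [mul_assoc, mul_comm (x ^ k) t, hs0]
  obtain ⟨G, hG⟩ := Module.Finite.fg_top (R := A) (M := N)
  refine ⟨∏ n ∈ G, I n, fun p hp => ?_, fun a ha n q hq => ?_⟩
  · obtain ⟨n, -, hn⟩ := p.2.prod_le.1 ((PrimeSpectrum.mem_zeroLocus _ _).1 hp)
    exact hI n ((PrimeSpectrum.mem_zeroLocus _ _).2 hn)
  · have hn : n ∈ Submodule.span A (G : Set N) := hG ▸ Submodule.mem_top
    induction hn using Submodule.span_induction with
    | mem x hx => exact (Ideal.prod_le_inf.trans (Finset.inf_le hx) ha : a ∈ I x) q hq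
    | zero => exact ⟨1, one_notMem q, smul_zero _⟩
    | add x y _ _ hx hy =>
      obtain ⟨s, hs, hs0⟩ := hx
      obtain ⟨t, ht, ht0⟩ := hy
      exact ⟨s * t, q.2.mul_notMem hs ht, by
        rw [smul_add, show s * t * a = t * (s * a) by ring, mul_smul t (s * a) x, hs0, smul_zero, zero_add,
          show t * (s * a) = s * (t * a) by ring, mul_smul s (t * a) y, ht0, smul_zero]⟩
    | smul r x _ hx =>
      obtain ⟨s, hs, hs0⟩ := hx
      exact ⟨s, hs, by rw [smul_comm, hs0, smul_zero]⟩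

include hω in
/-- The annihilator theorem. -/
theorem exists_killT_iff {K : Dual.D A} (S : InjRep K) (a : ℤ) [K.IsGE a]
    (hK : ∀ j, Module.Finite A (Dual.HD A K j)) {T T' : Set (PrimeSpectrum A)} (hT : StableUnderSpecialization T)
    (hT' : StableUnderSpecialization T') (s : ℤ) :
    (∃ J : Ideal A, PrimeSpectrum.zeroLocus (J : Set A) ⊆ T' ∧ ∀ i ≤ s, ∀ x ∈ J, KillT S.E x T i) ↔
      ∀ p q : PrimeSpectrum A, p ≤ q → p ∉ T' → q ∈ T → ∀ i ≤ s, ZeroAt p.asIdeal (K ⟶ ω⟦dfn hω q - i⟧) := by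
  have hlow : ∀ i < S.a, ∀ y : S.E.X i, y = 0 := fun i hi y => by
    haveI := ModuleCat.subsingleton_of_isZero (S.vanishes i hi)
    exact Subsingleton.elim _ _
  constructor
  · rintro ⟨J, hJ, hkill⟩ p q hpq hp hq i hi u
    obtain ⟨x, hx, hxp⟩ := SetLike.not_le_iff_exists.1 fun hle : J ≤ p.asIdeal =>
      hp (hJ ((PrimeSpectrum.mem_zeroLocus _ _).2 hle))
    obtain ⟨t, ht, ht0⟩ := (killAt_iff hω q S a hK _ i).1
      (killAt_of_killT S.inj hlow (fun j hj => hkill j hj x hx) hT hq hi) u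
    exact ⟨_, p.2.mul_notMem (fun hc => ht (hpq hc)) fun hc => hxp (p.2.mem_of_pow_mem _ hc), ht0⟩
  · intro h
    let L := model hω
    let R := Finset.Icc (L.a - s) (L.b - S.a)
    have hex : ∀ j : ℤ, ∃ J : Ideal A, PrimeSpectrum.zeroLocus (J : Set A) ⊆ T' ∧
        ∀ x ∈ J, ∀ u : K ⟶ ω⟦j⟧, ∀ q ∈ {q | q ∈ T ∧ dfn hω q ≤ j + s}, ∃ t ∉ q.asIdeal, (t * x) • u = 0 :=
      fun j => by
      haveI : Module.Finite A (K ⟶ ω⟦j⟧) := L.finite_hom hω.finite_cohomology K hK j
      exact exists_ideal_kill hT' _ fun p hp q hq hpq => by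
        have := h p q hpq hp hq.1 (dfn hω q - j) (by have : dfn hω q ≤ j + s := hq.2; omega)
        rwa [show dfn hω q - (dfn hω q - j) = j by omega] at this
    choose J hJ hJk using hex
    let n : ℕ := (L.b - L.a + 1).toNat
    have hlab : ∀ q, L.a ≤ dfn hω q ∧ dfn hω q ≤ L.b := DualCxLib.dfn_mem hω
    refine ⟨(∏ j ∈ R, J j) ^ n, fun p hp => ?_, fun i hi x hx => ?_⟩
    · obtain ⟨j, -, hj⟩ := p.2.prod_le.1 (p.2.le_of_pow_le ((PrimeSpectrum.mem_zeroLocus _ _).1 hp))
      exact hJ j ((PrimeSpectrum.mem_zeroLocus _ _).2 hj)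
    · have hTeq : {q | q ∈ T ∧ L.a ≤ dfn hω q} = T := Set.ext fun q => ⟨And.left, fun hq => ⟨hq, (hlab q).1⟩⟩
      rw [← hTeq]
      refine killT_pow_of_killAt S.inj hT (dfn hω) (fun _ _ => DualCxLib.dfn_lt hω) L.a n ?_ (∏ j ∈ R, J j) ?_ x hx
      · intro q hq
        have := (hlab q).2
        omega
      · intro y hy q hq
        by_cases hSi : i < S.a
        · intro z _ r _ _
          exact ⟨0, zero_mem _, 1, one_notMem q, by rw [hlow i hSi z, map_zero, smul_zero, sub_zero, smul_zero]⟩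
        refine (killAt_iff hω q S a hK _ i).2 fun u => hJk (dfn hω q - i) _ ?_ u q ⟨hq, by omega⟩
        have hjR : dfn hω q - i ∈ R := Finset.mem_Icc.2 ⟨by have := (hlab q).1; omega, by have := (hlab q).2; omega⟩
        exact Ideal.prod_le_inf.trans (Finset.inf_le hjR) hy

include hω in
theorem height_Ici_eq {p q : PrimeSpectrum A} (hpq : p ≤ q) :
    Order.height (⟨q, hpq⟩ : Set.Ici p) = ((dfn hω q - dfn hω p).toNat : ℕ∞) := by
  refine le_antisymm (Order.height_le fun l hl => ?_) (DualCxLib.le_height_Ici hω p q hpq)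
  have h1 := DualCxLib.dfn_ltSeries hω (l.map Subtype.val (Subtype.strictMono_coe _))
  rw [LTSeries.last_map, LTSeries.head_map, LTSeries.map_length, hl] at h1
  replace h1 : (l.length : ℤ) ≤ dfn hω q - dfn hω l.head.1 := h1
  have h2 : dfn hω p ≤ dfn hω l.head.1 := DualCxLib.dfn_le hω (show p ≤ l.head.1 from l.head.2)
  exact_mod_cast show l.length ≤ (dfn hω q - dfn hω p).toNat by omega

end Groth.Agent.FaltingsAnnLib
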