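import Groth.Agent.FaltingsAnnLib.Translate
import Groth.Agent.DualCxLib.PairD
import Groth.Agent.DualCxLib.LocDual
import Groth.Agent.DualCxLib.Shift
import Groth.Agent.InjHullLib.Matlis

/-!
# Killing local cohomology by local duality
-/

set_option autoImplicit false
set_option linter.style.haveILetI false
set_option backward.isDefEq.respectTransparency false
set_option maxRecDepth 4000

universe u w

open CategoryTheory Limits IsLocalRing
attribute [local instance] HasDerivedCategory.standard

noncomputable section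

namespace Groth.Agent.FaltingsAnnLib

open DualCxLib

variable {B : Type u} [CommRing B] [IsLocalRing B]

theorem smul_eq_zero_of_dual {E : Type u} [AddCommGroup E] [Module B E] {f : ResidueField B →ₗ[B] E}
    (hf : InjHull.IsInjectiveHull f) {N : Type w} [AddCommGroup N] [Module B N] [Module.Finite B N] {b : B}
    (h : ∀ φ : N →ₗ[B] E, b • φ = 0) (u : N) : b • u = 0 := by
  obtain ⟨n, g, hg⟩ := Module.Finite.exists_fin' B N
  let e := g.quotKerEquivOfSurjective hg
  suffices b • e.symm u = 0 by rwa [← map_smul, LinearEquiv.map_eq_zero_iff] at this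
  refine InjHullLib.eval_injective hf _ ?_
  rw [map_zero]
  refine LinearMap.ext fun ψ => ?_
  show ψ (b • e.symm u) = 0
  rw [map_smul]
  exact LinearMap.congr_fun (h (ψ ∘ₗ e.symm.toLinearMap)) u

variable [IsNoetherianRing B]

/-- An element kills local cohomology iff it kills the dual. -/
theorem smul_HDI_iff {ω : Dual.D B} (hω : Dual.IsDualizing B ω) (hn : Dual.IsNormalized B ω) (X : Dual.D B)
    (hX : ∀ j, Module.Finite B (Dual.HD B X j)) (b : B) (i : ℤ) :
    (∀ x : Dual2.HDI B (maximalIdeal B) X i, b • x = 0) ↔ ∀ u : X ⟶ ω⟦-i⟧, b • u = 0 := by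
  let S := model hω
  obtain ⟨f, hf⟩ := S.exists_hull_E0 hω hn
  let e : S.E0 ≃ₗ[B] S.E0 := LinearEquiv.refl B _
  have hb := S.bijective_phiD hω hn e hf X hX i
  haveI : Module.Finite B (X ⟶ ω⟦-i⟧) := S.finite_hom hω.finite_cohomology X hX (-i)
  refine ⟨fun h u => smul_eq_zero_of_dual hf (fun φ => ?_) u, fun h x => hb.1 ?_⟩
  · obtain ⟨x, rfl⟩ := hb.2 φ
    rw [← map_smul, h x, map_zero]
  · rw [map_zero]
    refine LinearMap.ext fun u => ?_
    rw [map_smul, LinearMap.smul_apply, ← map_smul, h u, map_zero, LinearMap.zero_apply]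

end Groth.Agent.FaltingsAnnLib
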