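import Groth.Agent.FaltingsAnnLib.Supp
import Groth.Prelude.Def_DRing2
import Mathlib.RingTheory.Ideal.MinimalPrime.Noetherian
import Mathlib.LinearAlgebra.Finsupp.LinearCombination

/-!
# Annihilators of cohomology with supports
-/

set_option autoImplicit false
set_option linter.style.haveILetI false
set_option backward.isDefEq.respectTransparency false

universe u

open CategoryTheory

noncomputable section

namespace Groth.Agent.FaltingsAnnLib

variable {A : Type u} [CommRing A] (Y : DRing.Cx A)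

/-- `a` kills the `i`-th cohomology of the part of `Y` supported in `T`. -/
def KillT (a : A) (T : Set (PrimeSpectrum A)) (i : ℤ) : Prop :=
  ∀ y ∈ gamma T (Y.X i), Y.d i (i + 1) y = 0 → ∃ w ∈ gamma T (Y.X (i - 1)), Y.d (i - 1) i w = a • y

/-- `a` kills the `i`-th cohomology of `Γ_q` of the localisation of `Y` at `q`. -/
def KillAt (a : A) (q : PrimeSpectrum A) (i : ℤ) : Prop :=
  ∀ y ∈ DRing.torsionSub q.asIdeal (Y.X i), ∀ s ∉ q.asIdeal, s • Y.d i (i + 1) y = 0 →
    ∃ w ∈ DRing.torsionSub q.asIdeal (Y.X (i - 1)), ∃ t ∉ q.asIdeal, t • (Y.d (i - 1) i w - a • y) = 0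

variable {Y}

theorem KillT.mul_left {a : A} {T : Set (PrimeSpectrum A)} {i : ℤ} (h : KillT Y a T i) (b : A) :
    KillT Y (b * a) T i := fun y hy hd => by
  obtain ⟨w, hw, e⟩ := h y hy hd
  exact ⟨b • w, Submodule.smul_mem _ b hw, by rw [map_smul, e, mul_smul]⟩

theorem killT_empty (a : A) (i : ℤ) : KillT Y a ∅ i := fun y hy _ =>
  ⟨0, zero_mem _, by rw [map_zero, gamma_empty y hy, smul_zero]⟩

theorem mem_gamma_compl_of_torsion {M : Type u} [AddCommGroup M] [Module A M] {q p : PrimeSpectrum A}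
    (h : ¬ q ≤ p) {x : M} (hx : x ∈ DRing.torsionSub q.asIdeal M) : x ∈ gamma ({p}ᶜ) M := by
  refine torsionSub_le_gamma q.asIdeal ?_ hx
  intro r hr hrp
  obtain rfl : r = p := hrp
  exact h ((PrimeSpectrum.mem_zeroLocus _ _).1 hr)

variable [IsNoetherianRing A] (hinj : ∀ i, Module.Injective A (Y.X i))

include hinj in
/-- Gluing over an antichain. -/
theorem killT_glue {U U' : Set (PrimeSpectrum A)} (hU'U : U' ⊆ U) (hU' : StableUnderSpecialization U')
    (hanti : ∀ q ∈ U \ U', ∀ p, q < p → p ∈ U') {a b : A} {i : ℤ}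
    (hb : ∀ q ∈ U \ U', KillAt Y b q i) (ha : KillT Y a U' i) : KillT Y (a * b) U i := by
  classical
  intro y hy hdy
  let I0 : Ideal A := annElt (A := A) y
  have hfin := Ideal.finite_minimalPrimes_of_isNoetherianRing A I0
  let S : Set (PrimeSpectrum A) := {q | q ∈ U \ U' ∧ q.asIdeal ∈ I0.minimalPrimes}
  have hS : S.Finite := (hfin.preimage fun p _ q _ h => PrimeSpectrum.ext h).subset fun q hq => hq.2
  have key : ∀ q ∈ S, ∃ w ∈ DRing.torsionSub q.asIdeal (Y.X (i - 1)),
      Y.d (i - 1) i w - b • y ∈ gamma ({q}ᶜ) (Y.X i) := fun q hq => by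
    let others := hfin.toFinset.erase q.asIdeal
    have hne : ∀ P ∈ others, ¬ P ≤ q.asIdeal := fun P hP hle => by
      obtain ⟨hPq, hPm⟩ := Finset.mem_erase.1 hP
      rw [Set.Finite.mem_toFinset] at hPm
      exact hPq (le_antisymm hle (hq.2.2 hPm.1 hle))
    choose! e he heq using fun P hP => SetLike.not_le_iff_exists.1 (hne P hP)
    let t0 := ∏ P ∈ others, e P
    have ht0 : t0 ∉ q.asIdeal := fun h => by
      obtain ⟨P, hP, h'⟩ := Ideal.IsPrime.prod_mem_iff.1 h
      exact heq P hP h'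
    have hrad : q.asIdeal * Ideal.span {t0} ≤ I0.radical := by
      rw [← Ideal.sInf_minimalPrimes, le_sInf_iff]
      intro P hP
      by_cases hPq : P = q.asIdeal
      · exact hPq ▸ Ideal.mul_le_left
      · have hP' : P ∈ others := Finset.mem_erase.2 ⟨hPq, hfin.mem_toFinset.2 hP⟩
        exact Ideal.mul_le_right.trans ((Ideal.span_singleton_le_iff_mem _).2
          (Ideal.prod_le_inf.trans (Finset.inf_le hP') (Ideal.prod_mem_prod fun P hP => he P hP)))
    obtain ⟨N, hN⟩ := Ideal.exists_pow_le_of_le_radical_of_fg hrad (IsNoetherian.noetherian _)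
    let t := t0 ^ N
    have ht : t ∉ q.asIdeal := fun h => ht0 (q.2.mem_of_pow_mem N h)
    have hty : t • y ∈ DRing.torsionSub q.asIdeal (Y.X i) := ⟨N, fun c hc => by
      rw [smul_smul]
      refine mem_annElt.1 (hN ?_)
      rw [mul_pow, Ideal.span_singleton_pow]
      exact Ideal.mul_mem_mul hc (Ideal.mem_span_singleton_self _)⟩
    obtain ⟨w', hw', s, hs, hs0⟩ := hb q hq.1 (t • y) hty 1 (fun h => q.2.ne_top ((Ideal.eq_top_iff_one _).2 h))
      (by rw [one_smul, map_smul, hdy, smul_zero])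
    haveI := hinj (i - 1)
    haveI := LocCohLib.injective_torsionSub q.asIdeal (Y.X (i - 1))
    obtain ⟨n, w, hw⟩ := exists_div t (⟨w', hw'⟩ : DRing.torsionSub q.asIdeal (Y.X (i - 1)))
    have hw₀ : t ^ (n + 1) • (w : Y.X (i - 1)) = t ^ n • w' := congrArg Subtype.val hw
    refine ⟨w, w.2, fun p hp => ⟨s * t ^ (n + 1), ?_, ?_⟩⟩
    · obtain rfl : p = q := of_not_not hp
      exact p.2.mul_notMem hs fun h => ht (p.2.mem_of_pow_mem _ h)
    · rw [mul_smul, smul_sub, ← map_smul, hw₀, map_smul,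
        show t ^ (n + 1) • b • y = t ^ n • b • t • y by rw [pow_succ, mul_smul, smul_comm t b], ← smul_sub,
        smul_comm, hs0, smul_zero]
  choose! w hwt hw using key
  let W := ∑ q ∈ hS.toFinset, w q
  have hWU : W ∈ gamma U (Y.X (i - 1)) := Submodule.sum_mem _ fun q hq => by
    have hq' := hS.mem_toFinset.1 hq
    refine torsionSub_le_gamma q.asIdeal (fun p hp => ?_) (hwt q hq')
    have hqp : q ≤ p := (PrimeSpectrum.mem_zeroLocus _ _).1 hp
    rcases eq_or_lt_of_le hqp with rfl | h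
    · exact hq'.1.1
    · exact hU'U (hanti q hq'.1 p h)
  have hy' : b • y - Y.d (i - 1) i W ∈ gamma U' (Y.X i) := by
    intro p hp
    by_cases hpU : p ∈ U
    swap
    · exact sub_mem (Submodule.smul_mem _ b hy) (map_mem_gamma (Y.d (i - 1) i).hom hWU) p hpU
    suffices h : b • y - Y.d (i - 1) i W ∈ gamma ({p}ᶜ) (Y.X i) from h p fun h => h rfl
    have hother : ∀ q ∈ S, q ≠ p → Y.d (i - 1) i (w q) ∈ gamma ({p}ᶜ) (Y.X i) := fun q hq hne =>
      map_mem_gamma (Y.d (i - 1) i).hom (mem_gamma_compl_of_torsion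
        (fun h => hp (hanti q hq.1 p (lt_of_le_of_ne h hne))) (hwt q hq))
    rw [map_sum]
    by_cases hpS : p ∈ S
    · rw [← Finset.add_sum_erase _ _ (hS.mem_toFinset.2 hpS), ← sub_sub]
      refine sub_mem ?_ (Submodule.sum_mem _ fun q hq => ?_)
      · rw [← neg_sub]
        exact neg_mem (hw p hpS)
      · obtain ⟨hne, hq'⟩ := Finset.mem_erase.1 hq
        exact hother q (hS.mem_toFinset.1 hq') hne
    · refine sub_mem (Submodule.smul_mem _ b ?_) (Submodule.sum_mem _ fun q hq => ?_)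
      · intro r hr
        obtain rfl : r = p := of_not_not hr
        by_contra hcon
        push_neg at hcon
        have hle : I0 ≤ r.asIdeal := fun c hc => by_contra fun hc' => hcon c hc' (mem_annElt.1 hc)
        obtain ⟨P, hPm, hPr⟩ := Ideal.exists_minimalPrimes_le hle
        let q : PrimeSpectrum A := ⟨P, hPm.1.1⟩
        have hqU : q ∈ U := zeroLocus_annElt_subset hy ((PrimeSpectrum.mem_zeroLocus _ _).2 hPm.1.2)
        have hqU' : q ∉ U' := fun h => hp (hU' ((PrimeSpectrum.le_iff_specializes q r).1 hPr) h)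
        rcases eq_or_lt_of_le (show q ≤ r from hPr) with h | h
        · exact hpS ⟨⟨hpU, hp⟩, h ▸ hPm⟩
        · exact hp (hanti q ⟨hqU, hqU'⟩ r h)
      · exact hother q (hS.mem_toFinset.1 hq) fun h => hpS (h ▸ hS.mem_toFinset.1 hq)
  obtain ⟨w', hw', e⟩ := ha _ hy' (by
    rw [map_sub, map_smul, hdy, smul_zero]
    show 0 - (Y.d (i - 1) i ≫ Y.d i (i + 1)) W = 0
    rw [Y.d_comp_d]
    exact sub_zero _)
  refine ⟨w' + a • W, add_mem (gamma_mono hU'U hw') (Submodule.smul_mem _ a hWU), ?_⟩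
  rw [map_add, e, map_smul, smul_sub, mul_smul, sub_add_cancel]

include hinj in
/-- An element killing the local cohomology at every point of `T` has a power killing the cohomology with supports. -/
theorem killT_of_killAt {T : Set (PrimeSpectrum A)} (hT : StableUnderSpecialization T) (f : PrimeSpectrum A → ℤ)
    (hf : StrictMono f) {a : A} {i : ℤ} (lo : ℤ) :
    ∀ n : ℕ, (∀ q ∈ T, f q < lo + n) → (∀ q ∈ T, KillAt Y a q i) →
      KillT Y (a ^ n) {q | q ∈ T ∧ lo ≤ f q} i
  | 0, hn, _ => by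
    rw [show {q | q ∈ T ∧ lo ≤ f q} = (∅ : Set (PrimeSpectrum A)) from Set.eq_empty_iff_forall_notMem.2
      fun q hq => by have := hn q hq.1; have := hq.2; push_cast at *; omega]
    exact killT_empty _ i
  | n + 1, hn, hk => by
    have ih := killT_of_killAt hT f hf (lo + 1) n (fun q hq => by have := hn q hq; push_cast at *; omega) hk
    rw [pow_succ]
    refine killT_glue hinj (U := {q | q ∈ T ∧ lo ≤ f q}) (U' := {q | q ∈ T ∧ lo + 1 ≤ f q}) (fun q hq => ⟨hq.1, by have := hq.2; omega⟩) ?_ ?_ (fun q hq => hk q hq.1.1) ih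
    · intro x z hxz hx
      exact ⟨hT hxz hx.1, hx.2.trans (hf.monotone ((PrimeSpectrum.le_iff_specializes x z).2 hxz))⟩
    · intro q hq p hqp
      refine ⟨hT ((PrimeSpectrum.le_iff_specializes q p).1 hqp.le) hq.1.1, ?_⟩
      have := hq.1.2
      have := hf hqp
      omega

omit [IsNoetherianRing A] in
include hinj in
/-- Cocycles with values supported in `T` are boundaries after multiplication by a power. -/
theorem exists_primitive {T : Set (PrimeSpectrum A)} {lo : ℤ} (hlo : ∀ i < lo, ∀ y : Y.X i, y = 0) {a : A} {s : ℤ}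
    (hkill : ∀ i ≤ s, KillT Y a T i) : ∀ (k : ℕ) (i : ℤ), i < lo + k → i ≤ s →
      ∀ (M : Type u) [AddCommGroup M] [Module A M] (φ : M →ₗ[A] Y.X i), (∀ m, φ m ∈ gamma T (Y.X i)) →
        (∀ m, Y.d i (i + 1) (φ m) = 0) → ∃ ψ : M →ₗ[A] Y.X (i - 1), ∀ m, Y.d (i - 1) i (ψ m) = a ^ k • φ m := by
  intro k
  induction k with
  | zero =>
    intro i hi _ M _ _ φ _ _
    exact ⟨0, fun m => by rw [hlo i (by simpa using hi) (φ m)]; simp⟩
  | succ k ih =>
    intro i hi his M _ _ φ hφ hdφ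
    choose w hw hwd using fun m : M => hkill i his (φ m) (hφ m) (hdφ m)
    let π : (M →₀ A) →ₗ[A] M := Finsupp.linearCombination A id
    let ψ₀ : (M →₀ A) →ₗ[A] Y.X (i - 1) := Finsupp.linearCombination A w
    have hψ₀ : ∀ z, Y.d (i - 1) i (ψ₀ z) = a • φ (π z) := fun z => by
      have e : (Y.d (i - 1) i).hom ∘ₗ ψ₀ = a • (φ ∘ₗ π) := Finsupp.lhom_ext fun m c => by
        simp [ψ₀, π, hwd, smul_comm c a]
      exact LinearMap.congr_fun e z
    let K1 := LinearMap.ker π
    obtain ⟨χ, hχ⟩ := ih (i - 1) (by push_cast at hi; omega) (by omega) K1 (ψ₀ ∘ₗ K1.subtype)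
      (fun z => by
        rw [LinearMap.comp_apply]
        show Finsupp.linearCombination A w (z : M →₀ A) ∈ _
        rw [Finsupp.linearCombination_apply]
        exact Submodule.sum_mem _ fun m _ => Submodule.smul_mem _ _ (hw m))
      (fun z => by
        have := hψ₀ (z : M →₀ A)
        rw [LinearMap.mem_ker.1 z.2, map_zero, smul_zero] at this
        rw [show i - 1 + 1 = i by omega]
        exact this)
    haveI := hinj (i - 1 - 1)
    obtain ⟨χ', hχ''⟩ := Module.Baer.extension_property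
      (M := ↥K1) (N := M →₀ A) (Module.Baer.iff_injective.2 (hinj (i - 1 - 1))) K1.subtype Subtype.val_injective χ
    have hχ' : ∀ z, χ' (K1.subtype z) = χ z := fun z => LinearMap.congr_fun hχ'' z
    let ψ₁ : (M →₀ A) →ₗ[A] Y.X (i - 1) := a ^ k • ψ₀ - (Y.d (i - 1 - 1) (i - 1)).hom ∘ₗ χ'
    have hπ : Function.Surjective π := fun m => ⟨Finsupp.single m 1, by simp [π]⟩
    have hker : LinearMap.ker π ≤ LinearMap.ker ψ₁ := fun z hz => LinearMap.mem_ker.2 (by
      show a ^ k • ψ₀ z - Y.d (i - 1 - 1) (i - 1) (χ' z) = 0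
      rw [show χ' z = χ ⟨z, hz⟩ from hχ' ⟨z, hz⟩]
      exact sub_eq_zero.2 (hχ ⟨z, hz⟩).symm)
    refine ⟨(LinearMap.ker π).liftQ ψ₁ hker ∘ₗ (π.quotKerEquivOfSurjective hπ).symm.toLinearMap, fun m => ?_⟩
    obtain ⟨z, rfl⟩ := hπ m
    rw [LinearMap.comp_apply, LinearEquiv.coe_coe,
      show (π.quotKerEquivOfSurjective hπ).symm (π z) = Submodule.Quotient.mk z from
        (LinearEquiv.symm_apply_eq _).2 rfl, Submodule.liftQ_apply]
    show Y.d (i - 1) i (a ^ k • ψ₀ z - Y.d (i - 1 - 1) (i - 1) (χ' z)) = _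
    rw [map_sub, map_smul, hψ₀, smul_smul, ← pow_succ]
    show _ - (Y.d (i - 1 - 1) (i - 1) ≫ Y.d (i - 1) i) (χ' z) = _
    rw [Y.d_comp_d]
    exact sub_zero _

include hinj in
/-- A killer of cohomology with supports has a power killing the local cohomology at each point. -/
theorem killAt_of_killT {T : Set (PrimeSpectrum A)} {lo : ℤ} (hlo : ∀ i < lo, ∀ y : Y.X i, y = 0) {a : A} {s : ℤ}
    (hkill : ∀ i ≤ s, KillT Y a T i) (hT : StableUnderSpecialization T) {q : PrimeSpectrum A} (hq : q ∈ T) {i : ℤ}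
    (his : i ≤ s) : KillAt Y (a ^ (s - lo + 1).toNat) q i := by
  intro y hy r hr hdy
  obtain ⟨n, hn⟩ := hy
  let f : A →ₗ[A] Y.X i := LinearMap.toSpanSingleton A (Y.X i) (r • y)
  have hf : q.asIdeal ^ n ≤ LinearMap.ker f := fun c hc => LinearMap.mem_ker.2 (by
    show c • r • y = 0
    rw [smul_comm, hn c hc, smul_zero])
  let φ : (A ⧸ q.asIdeal ^ n) →ₗ[A] Y.X i := Submodule.liftQ (q.asIdeal ^ n) f hf
  have hv : ∀ m, φ m ∈ gamma T (Y.X i) := fun m => by
    refine torsionSub_le_gamma q.asIdeal (fun p hp => hT ((PrimeSpectrum.le_iff_specializes q p).1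
      ((PrimeSpectrum.mem_zeroLocus _ _).1 hp)) hq) ⟨n, fun c hc => ?_⟩
    obtain ⟨m, rfl⟩ := Submodule.Quotient.mk_surjective _ m
    show c • m • r • y = 0
    rw [smul_comm c m, smul_comm c r, hn c hc, smul_zero, smul_zero]
  obtain ⟨ψ, hψ⟩ := exists_primitive hinj hlo hkill (s - lo + 1).toNat i (by omega) his _ φ hv (fun m => by
    obtain ⟨m, rfl⟩ := Submodule.Quotient.mk_surjective _ m
    show Y.d i (i + 1) (m • r • y) = 0
    rw [map_smul, map_smul, hdy, smul_zero])
  haveI := hinj (i - 1)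
  haveI := LocCohLib.injective_torsionSub q.asIdeal (Y.X (i - 1))
  let one : A ⧸ q.asIdeal ^ n := Submodule.Quotient.mk 1
  have hone : φ one = r • y := one_smul A (r • y)
  have hwt : ψ one ∈ DRing.torsionSub q.asIdeal (Y.X (i - 1)) := ⟨n, fun c hc => by
    rw [← map_smul, show c • one = 0 from (Submodule.Quotient.mk_smul (q.asIdeal ^ n) c (1 : A)).symm.trans
      ((Submodule.Quotient.mk_eq_zero _).2 (by rw [smul_eq_mul, mul_one]; exact hc)), map_zero]⟩
  obtain ⟨m, w, hw⟩ := exists_div r (⟨ψ one, hwt⟩ : DRing.torsionSub q.asIdeal (Y.X (i - 1)))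
  have hw₀ : r ^ (m + 1) • (w : Y.X (i - 1)) = r ^ m • ψ one := congrArg Subtype.val hw
  refine ⟨w, w.2, r ^ (m + 1), fun h => hr (q.2.mem_of_pow_mem _ h), ?_⟩
  rw [smul_sub, ← map_smul, hw₀, map_smul, hψ one, hone, smul_smul, smul_smul, smul_smul, pow_succ, sub_eq_zero]
  congr 1
  ring

end Groth.Agent.FaltingsAnnLib
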