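import Groth.Agent.FaltingsAnnLib.RgammaTri
import Groth.Agent.FaltingsAnnLib.Bootstrap
import Groth.Agent.CechComplLib.H0
import Groth.Agent.EGA4Dim.RegularSlice

/-!
# Annihilators of completed local cohomology away from the large set
-/

set_option autoImplicit false
set_option linter.style.haveILetI false
set_option backward.isDefEq.respectTransparency false

universe u

open CategoryTheory Limits Pretriangulated
attribute [local instance] HasDerivedCategory.standard
open scoped Pointwise

noncomputable section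

namespace Groth.Agent.FaltingsAnnLib

open DualCxLib (dfn)
open DComplLib (isCompl_toDerivedCompletion hQIso)

variable {A : Type u} [CommRing A] [IsNoetherianRing A]

theorem exists_notMem_smul_eq_zero (p : PrimeSpectrum A) (M : Type u) [AddCommGroup M] [Module A M] [Module.Finite A M]
    (h : ∀ m : M, ∃ g : A, g ∉ p.asIdeal ∧ g • m = 0) : ∃ g : A, g ∉ p.asIdeal ∧ ∀ m : M, g • m = 0 := by
  obtain ⟨g, hg, hgp⟩ := SetLike.not_le_iff_exists.1 fun hle : Module.annihilator A M ≤ p.asIdeal => by
    obtain ⟨m, hm⟩ := Module.mem_support_iff'.1 (Module.mem_support_iff_of_finite.2 hle : p ∈ Module.support A M)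
    obtain ⟨r, hr, h0⟩ := h m
    exact hm r hr h0
  exact ⟨g, hgp, Module.mem_annihilator.1 hg⟩

variable (I J : Ideal A) [DRing.HasRgammaI J] [DRing.HasDerivedCompletion I]

/-- The completed local cohomology in degrees `≤ s` is annihilated by an element outside `p`. -/
def KillsNear (p : PrimeSpectrum A) (s : ℕ) (M : Type u) [AddCommGroup M] [Module A M] : Prop :=
  ∃ g : A, g ∉ p.asIdeal ∧ ∀ i : ℤ, i ≤ s → ∀ x : Dual.HD A (cX J I M) i, g • x = 0

variable {I J}

/-- The case of degree zero. -/
theorem killsNear_zero [IsAdicComplete I A] (p r : PrimeSpectrum A) (hpr : p ≤ r) (hI : I ≤ r.asIdeal)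
    (hJ : ¬ J ≤ r.asIdeal) (M : Type u) [AddCommGroup M] [Module A M] [Module.Finite A M] :
    KillsNear I J p 0 M := by
  obtain ⟨fs, hfs⟩ := DComplLib.exists_ofList (J.fg_of_isNoetherianRing)
  let Mc := ModuleCat.of A M
  let Sg := (HomologicalComplex.single (ModuleCat.{u} A) (ComplexShape.up ℤ) 0).obj Mc
  let K := (CechComplLib.adicCx I).obj (DerCA.extCech Mc fs)
  obtain ⟨θ, -⟩ := CechComplLib.exists_iso_RgammaI_extCech J Mc hfs
  obtain ⟨e, -⟩ := ((CechComplLib.isCompl_adic_extCech Mc I fs).of_iso θ.symm).exists_iso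
    (isCompl_toDerivedCompletion (I := I) ((DRing.RgammaI J).obj (Dual.inD A M)))
  let eH : ∀ i : ℤ, Dual.HD A (cX J I M) i ≃ₗ[A] K.homology i := fun i =>
    ((DerivedCategory.homologyFunctor (ModuleCat.{u} A) i).mapIso e).symm.toLinearEquiv.trans
      ((hQIso K i).toLinearEquiv : Dual.HD A (DRing.toD K) i ≃ₗ[A] K.homology i)
  have hneg : ∀ q : ℤ, q < 0 → IsZero (K.X q) := fun q hq =>
    (CechComplLib.adicF I).map_isZero (ExtCechLib.isZero_extCech_X Mc fs q (Or.inl hq))
  obtain ⟨hinj, hrange⟩ := CechComplLib.homology_adic_aug I Mc fs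
  haveI := CechComplLib.isIso_adicηCx_single I Mc
  haveI : Module.Finite A (((CechComplLib.adicCx I).obj Sg).homology 0) :=
    Module.Finite.equiv ((HomologicalComplex.singleObjHomologySelfIso (ComplexShape.up ℤ) 0 Mc).symm ≪≫
      (HomologicalComplex.homologyFunctor (ModuleCat.{u} A) (ComplexShape.up ℤ) 0).mapIso
        (asIso (CechComplLib.adicηCx I Sg))).toLinearEquiv
  haveI : Module.Finite A (K.homology 0) := Module.Finite.of_injective _ hinj
  obtain ⟨g, hg, hg0⟩ := exists_notMem_smul_eq_zero p (K.homology 0) fun y => by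
    obtain ⟨f, hf, hfr⟩ : ∃ f ∈ fs, f ∉ r.asIdeal := by
      by_contra hc
      push Not at hc
      exact hJ (hfs ▸ Ideal.span_le.2 hc)
    obtain ⟨k, a, ha, hy⟩ := (hrange.subset ⟨y, rfl⟩ :
      CechComplLib.Cond I fs ((HomologicalComplex.homologyMap
        ((CechComplLib.adicCx I).map (CechComplLib.aug Mc fs)) 0).hom y)) f hf
    refine ⟨f ^ k + a, fun hmem => hfr (r.2.mem_of_pow_mem k ?_), hinj ?_⟩
    · have := sub_mem (hpr hmem) (hI ha)
      rwa [add_sub_cancel_right] at this
    · rw [map_smul, map_zero]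
      exact hy
  refine ⟨g, hg, fun i hi x => (eH i).injective ?_⟩
  rw [map_smul, map_zero]
  rcases lt_or_eq_of_le hi with hlt | heq
  · haveI : Subsingleton (K.homology i) := ModuleCat.subsingleton_of_isZero
      (HomologicalComplex.exactAt_iff_isZero_homology K i |>.1
        (ShortComplex.exact_of_isZero_X₂ _ (hneg i (by simpa using hlt))))
    exact Subsingleton.elim _ _
  · obtain rfl : i = 0 := by simpa using heq
    exact hg0 _

/-- The torsion of a finite module with respect to an element is supported above the associated primes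
containing it. -/
theorem exists_ass_of_torsion {M : Type u} [AddCommGroup M] [Module A M] [Module.Finite A M] {x : A}
    {Q : PrimeSpectrum A} (hQ : Q ∈ Module.support A (DRing.torsionSub (Ideal.span {x}) M)) :
    ∃ P : PrimeSpectrum A, P ≤ Q ∧ x ∈ P.asIdeal ∧ P.asIdeal ∈ associatedPrimes A M := by
  let N := DRing.torsionSub (Ideal.span {x}) M
  rw [Module.mem_support_iff_of_finite] at hQ
  obtain ⟨P, hP, hPQ⟩ := Ideal.exists_minimalPrimes_le hQ
  refine ⟨⟨P, hP.1.1⟩, hPQ, ?_, associatedPrimes.subset_of_injective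
    (f := N.subtype) N.injective_subtype (Module.associatedPrimes.minimalPrimes_annihilator_subset_associatedPrimes A N hP)⟩
  by_contra hx
  haveI := hP.1.1
  obtain ⟨n, hn⟩ := Module.mem_support_iff'.1
    (Module.mem_support_iff_of_finite.2 hP.1.2 : (⟨P, hP.1.1⟩ : PrimeSpectrum A) ∈ Module.support A N)
  obtain ⟨k, hk⟩ := n.2
  exact hn (x ^ k) (fun h => hx (hP.1.1.mem_of_pow_mem k h))
    (Subtype.ext (hk _ (Ideal.pow_mem_pow (Ideal.mem_span_singleton_self x) k)))

theorem depthAt_eq_zero_of_ass {M : Type u} [AddCommGroup M] [Module A M] [Module.Finite A M]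
    {p : PrimeSpectrum A} (hp : p.asIdeal ∈ associatedPrimes A M) : depthAt p M = 0 := by
  let L := Localization.AtPrime p.asIdeal
  haveI : IsNoetherianRing L := IsLocalization.isNoetherianRing p.asIdeal.primeCompl L inferInstance
  haveI : Module.Finite L (LocalizedModule p.asIdeal.primeCompl M) :=
    Module.Finite.of_isLocalizedModule p.asIdeal.primeCompl (LocalizedModule.mkLinearMap p.asIdeal.primeCompl M)
  have h := Module.associatedPrimes.preimage_comap_associatedPrimes_eq_associatedPrimes_of_isLocalizedModule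
    p.asIdeal.primeCompl L (LocalizedModule.mkLinearMap p.asIdeal.primeCompl M)
  have hm : IsLocalRing.maximalIdeal L ∈ associatedPrimes L (LocalizedModule p.asIdeal.primeCompl M) := by
    rw [← h, Set.mem_preimage, show (IsLocalRing.maximalIdeal L).comap (algebraMap A L) = p.asIdeal from
      IsLocalization.AtPrime.comap_maximalIdeal _ p.asIdeal]
    exact hp
  haveI : Nontrivial (LocalizedModule p.asIdeal.primeCompl M) := by
    by_contra hc
    rw [not_nontrivial_iff_subsingleton] at hc
    rw [associatedPrimes.eq_empty_of_subsingleton] at hm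
    exact hm
  obtain ⟨-, y, hy⟩ := isAssociatedPrime_iff.1 hm
  refine (Depth.idealDepth_eq_zero_iff CAlgBasics.maximalIdeal_smul_top_ne_top).2 ⟨y, ?_, fun r hr => ?_⟩
  · rintro rfl
    exact (IsLocalRing.maximalIdeal.isMaximal L).ne_top (by rw [hy]; simp)
  · rw [hy] at hr
    simpa [Submodule.mem_colon_singleton] using hr

theorem depthAt_quotient_eq {M : Type u} [AddCommGroup M] [Module A M] [Module.Finite A M] {N : Submodule A M}
    {p : PrimeSpectrum A} (hp : p ∉ Module.support A N) : depthAt p (M ⧸ N) = depthAt p M := by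
  haveI : Subsingleton (LocalizedModule p.asIdeal.primeCompl N) := not_nontrivial_iff_subsingleton.1 hp
  have h := LocalizedModule.map_exact p.asIdeal.primeCompl N.subtype N.mkQ (LinearMap.exact_subtype_mkQ N)
  refine (CAlgBasics.depth_congr (LinearEquiv.ofBijective (LocalizedModule.map p.asIdeal.primeCompl N.mkQ) ⟨?_, ?_⟩)).symm
  · refine (injective_iff_map_eq_zero _).2 fun y hy => ?_
    obtain ⟨z, rfl⟩ := (h y).1 hy
    rw [Subsingleton.elim z 0, map_zero]
  · exact LocalizedModule.map_surjective _ _ (Submodule.mkQ_surjective N)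

variable {ω : Dual.D A} (hω : Dual.IsDualizing A ω) {d : ℕ}

/-- The depth condition at the generalizations of a prime. -/
def CondK (I J : Ideal A) (d s : ℕ) (p : PrimeSpectrum A) (M : Type u) [AddCommGroup M] [Module A M] : Prop :=
  ∀ p' : PrimeSpectrum A, p' ≤ p → ∀ q : PrimeSpectrum A, p' ≤ q → J ≤ q.asIdeal → I ≤ q.asIdeal →
    (s : ℕ∞) ≤ depthAt p' M ∨ ((d + s : ℕ) : ℕ∞) < depthAt p' M + ((dfn hω q - dfn hω p').toNat : ℕ)

include hω in
/-- The completed local cohomology is annihilated outside the primes with small branches. -/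
theorem killsNear_of_cond [IsAdicComplete I A] (hcd : LocCoh.CdLE A I d) : ∀ (s : ℕ) (p r : PrimeSpectrum A),
    p ≤ r → I ≤ r.asIdeal → ¬ J ≤ r.asIdeal → ∀ (M : Type u) [AddCommGroup M] [Module A M] [Module.Finite A M],
    CondK hω I J d s p M → KillsNear I J p s M := by
  intro s
  induction s with
  | zero => exact fun p r hpr hI hJ M _ _ _ _ => killsNear_zero p r hpr hI hJ M
  | succ s ih =>
    intro p
    induction hh : p.asIdeal.height.toNat using Nat.strong_induction_on generalizing p with
    | _ n ihp =>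
    intro r hpr hI hJ M _ _ _ hM
    classical
    obtain ⟨x, hxp, hx⟩ : ∃ x ∈ p.asIdeal, ∀ Q : PrimeSpectrum A, Q < p → Q.asIdeal ∈ associatedPrimes A M →
        x ∉ Q.asIdeal := by
      let F := ((associatedPrimes.finite A M).subset (Set.sep_subset (associatedPrimes A M)
        fun Q => Q < p.asIdeal)).toFinset
      have hnot : ¬ (p.asIdeal : Set A) ⊆ ⋃ Q ∈ (↑F : Set (Ideal A)), (Q : Set A) := by
        rw [Ideal.subset_union_prime ⊥ ⊥ (fun Q hQ _ _ => ((Set.Finite.mem_toFinset _).1 hQ).1.isPrime)]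
        rintro ⟨Q, hQ, hle⟩
        exact ((Set.Finite.mem_toFinset _).1 hQ).2.not_ge hle
      obtain ⟨x, hx, hx'⟩ := Set.not_subset.1 hnot
      exact ⟨x, hx, fun Q hQ hQa hxQ => hx' (Set.mem_biUnion ((Set.Finite.mem_toFinset _).2 ⟨hQa, hQ⟩) hxQ)⟩
    let N := DRing.torsionSub (Ideal.span {x}) M
    have hN : ∀ Q : PrimeSpectrum A, Q ≤ p → Q ∈ Module.support A N →
        Q = p ∧ depthAt p M = 0 := fun Q hQp hQ => by
      obtain ⟨P, hPQ, hxP, hPa⟩ := exists_ass_of_torsion hQ
      obtain rfl : P = p := (lt_or_eq_of_le (hPQ.trans hQp)).resolve_left fun hlt => hx P hlt hPa hxP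
      exact ⟨le_antisymm hQp hPQ, depthAt_eq_zero_of_ass hPa⟩
    have hreg : IsSMulRegular (M ⧸ N) x := fun a b hab => sub_eq_zero.1 <| by
      have h0 : x • (a - b) = 0 := by rw [smul_sub]; exact sub_eq_zero.2 hab
      obtain ⟨m, hm⟩ := Submodule.mkQ_surjective N (a - b)
      rw [← hm] at h0 ⊢
      rw [← map_smul, Submodule.mkQ_apply, Submodule.Quotient.mk_eq_zero] at h0
      rw [Submodule.mkQ_apply, Submodule.Quotient.mk_eq_zero]
      obtain ⟨k, hk⟩ := h0
      refine ⟨k + 1, fun c hc => ?_⟩
      rw [Ideal.span_singleton_pow, Ideal.mem_span_singleton] at hc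
      obtain ⟨c, rfl⟩ := hc
      have := hk (x ^ k * c) (by
        rw [Ideal.span_singleton_pow]
        exact Ideal.mul_mem_right _ _ (Ideal.mem_span_singleton_self _))
      rw [smul_smul] at this
      rw [pow_succ, ← this]
      congr 1
      ring
    have hM1 : ∀ p' : PrimeSpectrum A, p' ≤ p → depthAt p' (M ⧸ N) = depthAt p' M ∨ (p' = p ∧ depthAt p M = 0) :=
      fun p' hp' => (em (p' ∈ Module.support A N)).elim (fun h => Or.inr (hN p' hp' h))
        (fun h => Or.inl (depthAt_quotient_eq h))
    have hcond : CondK hω I J d (s + 1) p (M ⧸ N) := fun p' hp' q hq hJq hIq => by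
      rcases hM1 p' hp' with h | ⟨rfl, h⟩
      · rw [h]; exact hM p' hp' q hq hJq hIq
      · rcases hM p' hp' q hq hJq hIq with h' | h'
        · rw [h] at h'
          exact absurd h' (by simp)
        · right
          rw [h, zero_add] at h'
          exact h'.trans_le le_add_self
    have kN : KillsNear I J p (s + 1) N := by
      by_cases hp : p ∈ Module.support A N
      · refine exists_smul_completion ⟨ω, hω⟩ I J p (s + 1) d hcd fun p' q hp' hJq hIq hq => ?_
        rw [krullDim_Icc_eq hω hq, show ((d + (s + 1) : ℕ) : WithBot ℕ∞) = (((d + (s + 1) : ℕ) : ℕ∞) : WithBot ℕ∞)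
          from rfl, lt_add_coe_iff]
        by_cases hpN : p' ∈ Module.support A N
        · obtain ⟨rfl, h0⟩ := hN p' hp' hpN
          rcases hM p' hp' q hq hJq hIq with h' | h'
          · rw [h0] at h'
            exact absurd h' (by simp)
          · rw [h0, zero_add] at h'
            exact h'.trans_le le_add_self
        · haveI : Subsingleton (LocalizedModule p'.asIdeal.primeCompl N) := not_nontrivial_iff_subsingleton.1 hpN
          rw [CAlgBasics.depth_eq_top, top_add]
          exact ENat.natCast_lt_top _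
      · obtain ⟨g, hg, hg0⟩ := exists_notMem_smul_eq_zero p N fun m => by
          rw [Module.mem_support_iff'] at hp
          push Not at hp
          exact hp m
        exact ⟨g, hg, fun i _ => smul_HD_cX_eq_zero J I g N hg0 i⟩
    have k2 : KillsNear I J p s (QuotSMulTop x (M ⧸ N)) := by
      refine ih p r hpr hI hJ _ fun p' hp' q hq hJq hIq => ?_
      by_cases hpN : p' ∈ Module.support A (QuotSMulTop x (M ⧸ N))
      · have hxp' : x ∈ p'.asIdeal := by
          by_contra hxp'
          obtain ⟨m, hm⟩ := Module.mem_support_iff'.1 hpN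
          obtain ⟨m, rfl⟩ := Submodule.Quotient.mk_surjective _ m
          refine hm x hxp' ?_
          rw [← Submodule.Quotient.mk_smul, Submodule.Quotient.mk_eq_zero]
          exact Submodule.smul_mem_pointwise_smul _ _ _ Submodule.mem_top
        haveI : Nontrivial (LocalizedModule p'.asIdeal.primeCompl (M ⧸ N)) := by
          by_contra hc
          rw [not_nontrivial_iff_subsingleton] at hc
          haveI := hc
          haveI := (LocalizedModule.map_surjective p'.asIdeal.primeCompl _
            (Submodule.mkQ_surjective (x • ⊤ : Submodule A (M ⧸ N)))).subsingleton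
          exact not_nontrivial (LocalizedModule p'.asIdeal.primeCompl (QuotSMulTop x (M ⧸ N))) hpN
        obtain ⟨e, -⟩ := EGA4Dim.slice_data (M ⧸ N) hreg p'.asIdeal hxp'
        have h := hcond p' hp' q hq hJq hIq
        simp only [depthAt] at h ⊢
        rw [← e] at h
        refine h.imp (fun h => ?_) fun h => ?_
        · push_cast at h
          exact (ENat.add_le_add_iff_right ENat.one_ne_top).1 h
        · rw [add_right_comm, show ((d + (s + 1) : ℕ) : ℕ∞) = ((d + s : ℕ) : ℕ∞) + 1 by push_cast; ring] at h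
          exact lt_of_add_lt_add_right h
      · haveI : Subsingleton (LocalizedModule p'.asIdeal.primeCompl (QuotSMulTop x (M ⧸ N))) :=
          not_nontrivial_iff_subsingleton.1 hpN
        left
        simp [depthAt, CAlgBasics.depth_eq_top]
    obtain ⟨g₂, hg₂, hk₂⟩ := k2
    let 𝔟 : Ideal A := ⨅ i : {i : ℤ // i ≤ ((s + 1 : ℕ) : ℤ)}, Module.annihilator A (Dual.HD A (cX J I (M ⧸ N)) i.1)
    have hb : ∀ g : A, g ∈ 𝔟 ↔ ∀ i : ℤ, i ≤ ((s + 1 : ℕ) : ℤ) → ∀ y : Dual.HD A (cX J I (M ⧸ N)) i, g • y = 0 := fun g => by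
      simp only [𝔟, Submodule.mem_iInf, Module.mem_annihilator, Subtype.forall]
    have hlt : ∀ Q : PrimeSpectrum A, Q < p → ¬ 𝔟 ≤ Q.asIdeal := fun Q hQ hle => by
      have hht : Q.asIdeal.height.toNat < n := by
        rw [← hh]
        have h1 := Ideal.height_strict_mono_of_isPrime (show Q.asIdeal < p.asIdeal from hQ)
        rw [← ENat.natCast_toNat (Ideal.height_ne_top Q.2.ne_top), ← ENat.natCast_toNat (Ideal.height_ne_top p.2.ne_top)] at h1
        exact_mod_cast h1
      obtain ⟨g, hg, hk⟩ := ihp _ hht Q rfl r (hQ.le.trans hpr) hI hJ (M ⧸ N)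
        fun p' hp' => hcond p' (hp'.trans hQ.le)
      exact hg (hle ((hb g).2 hk))
    obtain ⟨f, hf, k, hfk⟩ : ∃ f : A, f ∉ p.asIdeal ∧ ∃ k : ℕ, (f * x) ^ k ∈ 𝔟 := by
      let F := ((Ideal.finite_minimalPrimes_of_isNoetherianRing A 𝔟).toFinset.filter fun P => ¬ P ≤ p.asIdeal)
      obtain ⟨f, hf, hfp⟩ := SetLike.not_le_iff_exists.1 fun hle : F.inf id ≤ p.asIdeal => by
        obtain ⟨P, hP, hPp⟩ := (Ideal.IsPrime.inf_le' p.2).1 hle
        exact (Finset.mem_filter.1 hP).2 hPp
      refine ⟨f, hfp, ?_⟩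
      show f * x ∈ 𝔟.radical
      rw [← Ideal.sInf_minimalPrimes, Submodule.mem_sInf]
      intro P hP
      by_cases hPp : P ≤ p.asIdeal
      · rcases lt_or_eq_of_le (show (⟨P, hP.1.1⟩ : PrimeSpectrum A) ≤ p from hPp) with hlt' | heq
        · exact absurd hP.1.2 (hlt _ hlt')
        · exact Ideal.mul_mem_left P f (show x ∈ (⟨P, hP.1.1⟩ : PrimeSpectrum A).asIdeal by rw [heq]; exact hxp)
      · exact Ideal.mul_mem_right x P ((Finset.inf_le (f := id) (Finset.mem_filter.2
          ⟨(Set.Finite.mem_toFinset _).2 hP, hPp⟩)) hf)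
    have hk1 : ∀ i : ℤ, i ≤ ((s + 1 : ℕ) : ℤ) → ∀ (j : ℕ) (y : Dual.HD A (cX J I (M ⧸ N)) i),
        x ^ j • y = 0 → g₂ ^ j • y = 0 := by
      intro i hi j
      induction j with
      | zero => exact fun y hy => by simpa using hy
      | succ j ihj =>
        intro y hy
        obtain ⟨i, rfl⟩ : ∃ i' : ℤ, i = i' + 1 := ⟨i - 1, by ring⟩
        have h1 := smul_cX_of_torsion J I hreg i (hk₂ i (by push_cast at hi; omega)) (x ^ j • y)
          (by rw [smul_smul, ← pow_succ']; exact hy)
        rw [smul_comm] at h1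
        have h2 := ihj (g₂ • y) h1
        rwa [smul_smul, ← pow_succ] at h2
    have k1 : KillsNear I J p (s + 1) (M ⧸ N) := ⟨g₂ ^ k * f ^ k,
      fun h => (p.2.mem_or_mem h).elim (fun h => hg₂ (p.2.mem_of_pow_mem k h)) (fun h => hf (p.2.mem_of_pow_mem k h)),
      fun i hi y => by
        rw [mul_smul]
        refine hk1 i hi k _ ?_
        rw [smul_smul, mul_comm, ← mul_pow]
        exact (hb _).1 hfk i hi y⟩
    obtain ⟨a, ha, hka⟩ := kN
    obtain ⟨c, hc, hkc⟩ := k1
    exact ⟨a * c, fun h => (p.2.mem_or_mem h).elim ha hc, fun i hi y =>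
      smul_cX_of_ext J I N.subtype N.mkQ N.injective_subtype (Submodule.mkQ_surjective N)
        (LinearMap.exact_subtype_mkQ N) i (hka i hi) (hkc i hi) y⟩

end Groth.Agent.FaltingsAnnLib
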