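import Groth.Agent.FaltingsAnnLib.Kill
import Groth.Agent.DualCxLib.LocMain
import Mathlib.RingTheory.Localization.AtPrime.Basic

/-!
# Local cohomology at a point through the localized complex
-/

set_option autoImplicit false
set_option linter.style.haveILetI false
set_option backward.isDefEq.respectTransparency false
set_option maxRecDepth 4000

universe u

open CategoryTheory IsLocalRing
attribute [local instance] HasDerivedCategory.standard

noncomputable section

namespace Groth.Agent.FaltingsAnnLib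

variable {A : Type u} [CommRing A] [IsNoetherianRing A] (q : PrimeSpectrum A) (B : Type u) [CommRing B] [Algebra A B]
  [IsLocalization.AtPrime B q.asIdeal]

omit [IsNoetherianRing A] in
theorem one_notMem : (1 : A) ∉ q.asIdeal := fun h => q.2.ne_top ((Ideal.eq_top_iff_one _).2 h)

theorem exists_kill_of_forall {N : Type u} [AddCommGroup N] [Module A N] (I : Ideal A) (y : N)
    (h : ∀ a ∈ I, ∃ s ∉ q.asIdeal, s • a • y = 0) : ∃ t ∉ q.asIdeal, ∀ a ∈ I, a • t • y = 0 := by
  classical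
  obtain ⟨S, hS⟩ := IsNoetherian.noetherian I
  choose! s hs hs0 using h
  have hmem : ∀ x ∈ S, x ∈ I := fun x hx => hS ▸ Submodule.subset_span hx
  let t := ∏ x ∈ S, s x
  refine ⟨t, fun hc => ?_, fun a ha => ?_⟩
  · obtain ⟨x, hx, hx'⟩ := Ideal.IsPrime.prod_mem_iff.1 hc
    exact hs x (hmem x hx) hx'
  · rw [← hS] at ha
    induction ha using Submodule.span_induction with
    | mem x hx =>
      obtain ⟨c, hc⟩ := Finset.dvd_prod_of_mem s hx
      show x • t • y = 0
      rw [show t = c * s x by rw [mul_comm]; exact hc, mul_smul, smul_comm x c, smul_comm x (s x),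
        hs0 x (hmem x hx), smul_zero]
    | zero => exact zero_smul _ _
    | add x z _ _ hx hz => rw [add_smul, hx, hz, add_zero]
    | smul r x _ hx => rw [smul_assoc, hx, smul_zero]

variable [IsLocalRing B] {Y : DRing.Cx A} {Z : DRing.Cx B} (l : ∀ i, Y.X i →+ Z.X i)
  (hl : ∀ i (a : A) y, l i (a • y) = algebraMap A B a • l i y)
  (hsurj : ∀ i (z : Z.X i), ∃ y, ∃ s ∉ q.asIdeal, algebraMap A B s • z = l i y)
  (hker : ∀ i y, l i y = 0 → ∃ s ∉ q.asIdeal, s • y = 0)
  (hd : ∀ i j y, Z.d i j (l i y) = l j (Y.d i j y))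

omit [IsNoetherianRing A] in
include hl in
theorem map_torsion {i : ℤ} {n : ℕ} {y : Y.X i} (hy : ∀ a ∈ q.asIdeal ^ n, a • y = 0) :
    ∀ b ∈ maximalIdeal B ^ n, b • l i y = 0 := by
  intro b hb
  rw [← IsLocalization.AtPrime.map_eq_maximalIdeal q.asIdeal B, ← Ideal.map_pow, Ideal.map] at hb
  induction hb using Submodule.span_induction with
  | mem x hx =>
    obtain ⟨a, ha, rfl⟩ := hx
    rw [← hl, hy a ha, map_zero]
  | zero => exact zero_smul _ _
  | add x z _ _ hx hz => rw [add_smul, hx, hz, add_zero]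
  | smul r x _ hx => rw [smul_assoc, hx, smul_zero]

include hl hsurj hker in
theorem exists_torsion_lift {i : ℤ} (z : Z.X i)
    (hz : z ∈ gamma (PrimeSpectrum.zeroLocus (maximalIdeal B : Set B)) (Z.X i)) [IsNoetherianRing B] :
    ∃ (n : ℕ) (y : Y.X i), (∀ a ∈ q.asIdeal ^ n, a • y = 0) ∧
      ∃ s ∉ q.asIdeal, algebraMap A B s • z = l i y := by
  obtain ⟨n, hn⟩ := (mem_torsionSub_iff_gamma _ z).2 hz
  obtain ⟨y, s, hs, hy⟩ := hsurj i z
  obtain ⟨t, ht, ht0⟩ := exists_kill_of_forall q (q.asIdeal ^ n) y fun a ha => hker i (a • y) (by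
    rw [hl, ← hy, smul_comm, hn _ (by
      rw [← IsLocalization.AtPrime.map_eq_maximalIdeal q.asIdeal B, ← Ideal.map_pow]
      exact Ideal.mem_map_of_mem _ ha), smul_zero])
  exact ⟨n, t • y, ht0, t * s, q.2.mul_notMem ht hs, by rw [map_mul, mul_smul, hy, hl]⟩

omit [IsNoetherianRing A] in
theorem mem_gamma_maximal {N : Type u} [AddCommGroup N] [Module B N] {x : N} {n : ℕ}
    (h : ∀ b ∈ maximalIdeal B ^ n, b • x = 0) : x ∈ gamma (PrimeSpectrum.zeroLocus (maximalIdeal B : Set B)) N :=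
  torsionSub_le_gamma (maximalIdeal B) subset_rfl ⟨n, h⟩

include hl hsurj hker hd in
/-- Local cohomology at `q` is read off in the localized complex. -/
theorem killAt_iff_killT [IsNoetherianRing B] (hinj : ∀ i, Module.Injective A (Y.X i)) (a : A) (i : ℤ) :
    KillAt Y a q i ↔ KillT Z (algebraMap A B a) (PrimeSpectrum.zeroLocus (maximalIdeal B : Set B)) i := by
  have hu : ∀ {s : A}, s ∉ q.asIdeal → IsUnit (algebraMap A B s) := fun {s} hs =>
    IsLocalization.map_units B (⟨s, hs⟩ : q.asIdeal.primeCompl)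
  refine ⟨fun h z hz hdz => ?_, fun h => ?_⟩
  · obtain ⟨n, y, hy, s, hs, hsz⟩ := exists_torsion_lift q B l hl hsurj hker z hz
    obtain ⟨r, hr, hr0⟩ := hker (i + 1) (Y.d i (i + 1) y) (by
      rw [← hd, ← hsz, map_smul, hdz, smul_zero])
    obtain ⟨w, ⟨m, hw⟩, t, ht, e⟩ := h y ⟨n, hy⟩ r hr hr0
    obtain ⟨v, hv⟩ := (hu hs).exists_left_inv
    have e' := congrArg (l i) e
    rw [hl, map_zero] at e'
    have e'' := (hu ht).smul_eq_zero.1 e'
    rw [map_sub, hl, ← hsz, ← hd, sub_eq_zero] at e''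
    refine ⟨v • l (i - 1) w, Submodule.smul_mem _ v (mem_gamma_maximal B (map_torsion q B l hl hw)), ?_⟩
    rw [map_smul, e'', smul_comm (algebraMap A B a), smul_smul, hv, one_smul]
  · rintro y ⟨n, hy⟩ s hs hdy
    obtain ⟨w, hw, e⟩ := h (l i y) (mem_gamma_maximal B (map_torsion q B l hl hy)) (by
      have e' := congrArg (l (i + 1)) hdy
      rw [hl, map_zero, ← hd] at e'
      exact (hu hs).smul_eq_zero.1 e')
    obtain ⟨m, w', hw', t, ht, htw⟩ := exists_torsion_lift q B l hl hsurj hker w hw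
    obtain ⟨r, hr, hr0⟩ := hker i (Y.d (i - 1) i w' - t • a • y) (by
      rw [map_sub, ← hd, ← htw, map_smul, e, hl, hl, sub_self])
    haveI := hinj (i - 1)
    haveI := LocCohLib.injective_torsionSub q.asIdeal (Y.X (i - 1))
    obtain ⟨k, v, hv⟩ := exists_div t (⟨w', m, hw'⟩ : DRing.torsionSub q.asIdeal (Y.X (i - 1)))
    have hv₀ : t ^ (k + 1) • (v : Y.X (i - 1)) = t ^ k • w' := congrArg Subtype.val hv
    refine ⟨v, v.2, r * t ^ (k + 1), q.2.mul_notMem hr fun hc => ht (q.2.mem_of_pow_mem _ hc), ?_⟩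
    rw [mul_smul, smul_sub, ← map_smul, hv₀, map_smul, pow_succ, mul_smul, ← smul_sub, smul_comm, hr0, smul_zero]

end Groth.Agent.FaltingsAnnLib
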