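import Groth.Agent.FaltingsAnnLib.Duality
import Groth.Agent.FaltingsAnnLib.LocT
import Groth.Agent.DualCxLib.LocBound
import Groth.Agent.DRingLib.BaseChange

/-!
# Local cohomology at a point and a dualizing complex
-/

set_option autoImplicit false
set_option linter.style.haveILetI false
set_option backward.isDefEq.respectTransparency false
set_option maxRecDepth 4000

universe u

open CategoryTheory Limits IsLocalRing Pretriangulated
attribute [local instance] HasDerivedCategory.standard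

noncomputable section

namespace Groth.Agent.FaltingsAnnLib

open DualCxLib

theorem finite_HD_inD {A : Type u} [CommRing A] (M : Type u) [AddCommGroup M] [Module A M] [Module.Finite A M]
    (j : ℤ) : Module.Finite A (Dual.HD A (Dual.inD A M) j) := by
  rcases eq_or_ne j 0 with rfl | hj
  · haveI : Module.Finite A ((𝟭 (ModuleCat.{u} A)).obj (ModuleCat.of A M)) := inferInstanceAs (Module.Finite A M)
    exact Module.Finite.equiv
      ((DerivedCategory.singleFunctorCompHomologyFunctorIso (ModuleCat.{u} A) 0).app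
        (ModuleCat.of A M)).toLinearEquiv.symm
  · have hz : IsZero ((DerivedCategory.homologyFunctor (ModuleCat.{u} A) j).obj (Dual.inD A M)) := by
      rcases lt_or_gt_of_ne hj with h | h
      · exact DerivedCategory.isZero_of_isGE _ 0 j h
      · exact DerivedCategory.isZero_of_isLE _ 0 j h
    haveI := ModuleCat.subsingleton_of_isZero hz
    exact Module.Finite.of_surjective (0 : A →ₗ[A] _) fun _ => ⟨0, Subsingleton.elim _ _⟩

variable {A : Type u} [CommRing A] [IsNoetherianRing A] {ω : Dual.D A} (hω : Dual.IsDualizing A ω)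

section Loc

variable (M : Submonoid A) (B : Type u) [CommRing B] [Algebra A B] [IsLocalization M B]

include hω in
/-- Localization of morphisms from a bounded below object. -/
theorem isLoc_hom_ge (X : Dual.D A) (a : ℤ) [X.IsGE a] (hX : ∀ j, Module.Finite A (Dual.HD A X j)) (j : ℤ) :
    IsLoc M (Linear.rightComp A X (((model hω).rep.η B)⟦j⟧')) := by
  let S := model hω
  let SL : Model (DRing.toD (locCx B S.E)) :=
    ⟨locCx B S.E, S.a, S.b, fun i hi => isZero_locCx_X B (S.vanishes i hi),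
      fun i => injective_locCx_X M B (S.inj i), Iso.refl _⟩
  let n : ℤ := max a (S.b - j) + 1
  let T := ltTri n X
  obtain ⟨hfin, -⟩ := finite_HD_ltTri n X hX
  haveI : T.obj₁.IsLE (n - 1) := (DerivedCategory.isLE_iff _ _).2 fun k hk => HD_ltTri₁_of_le _ X (by omega)
  haveI : T.obj₁.IsGE a := (DerivedCategory.isGE_iff _ a).2 fun k hk => by
    haveI : Subsingleton ((DerivedCategory.homologyFunctor (ModuleCat.{u} A) k).obj T.obj₂) :=
      ModuleCat.subsingleton_of_isZero (DerivedCategory.isZero_of_isGE X a k hk)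
    haveI := (HD_ltTri₁_injective n X (j := k) (by omega)).subsingleton
    exact ModuleCat.isZero_of_subsingleton _
  haveI : T.obj₃.IsGE n := (DerivedCategory.isGE_iff _ _).2 fun k hk => HD_ltTri₃_of_lt _ X hk
  haveI h3 : T.obj₃.IsGE (S.b - j + 1) := DerivedCategory.TStructure.t.isGE_of_ge T.obj₃ _ n (by omega)
  haveI h3' : DerivedCategory.IsGE (T.obj₃⟦(-1 : ℤ)⟧) (S.b - j + 1) := by
    haveI : DerivedCategory.IsGE (T.obj₃⟦(-1 : ℤ)⟧) (n + 1) :=
      DerivedCategory.TStructure.t.isGE_shift T.obj₃ n (-1) (n + 1) (by omega)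
    exact DerivedCategory.TStructure.t.isGE_of_ge _ _ (n + 1) (by omega)
  haveI : DerivedCategory.IsGE T.obj₃ (SL.b - j + 1) := h3
  haveI : DerivedCategory.IsGE (T.obj₃⟦(-1 : ℤ)⟧) (SL.b - j + 1) := h3'
  have hbij : ∀ (L : Dual.D A), Subsingleton (T.obj₃ ⟶ L⟦j⟧) → Subsingleton (T.obj₃⟦(-1 : ℤ)⟧ ⟶ L⟦j⟧) →
      Function.Bijective (Linear.leftComp A (L⟦j⟧) T.mor₁ : (X ⟶ L⟦j⟧) → (T.obj₁ ⟶ L⟦j⟧)) := fun L _ _ => by
    refine ⟨(injective_iff_map_eq_zero _).2 fun v hv => ?_, fun v => ?_⟩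
    · obtain ⟨w, hw⟩ := Triangle.yoneda_exact₂ T (ltTri_mem n X) v hv
      rw [hw, Subsingleton.elim w 0, comp_zero]
    · obtain ⟨w, hw⟩ := Triangle.yoneda_exact₂ _ (inv_rot_of_distTriang _ (ltTri_mem n X))
        (show T.invRotate.obj₂ ⟶ L⟦j⟧ from v) (Subsingleton.elim (α := T.obj₃⟦(-1 : ℤ)⟧ ⟶ L⟦j⟧) _ _)
      exact ⟨w, hw.symm⟩
  have h1 := isLoc_hom M (S.rep.η B) (fun N _ _ _ k => S.rep.isLoc_HK M B k N) T.obj₁ a (n - 1) hfin j
  let e₁ := LinearEquiv.ofBijective _ (hbij ω (S.subsingleton_hom_of_isGE j _) (S.subsingleton_hom_of_isGE j _))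
  let e₂ := LinearEquiv.ofBijective _ (hbij (DRing.toD (locCx B S.E)) (SL.subsingleton_hom_of_isGE j _)
    (SL.subsingleton_hom_of_isGE j _))
  refine h1.of_comm M e₁.symm e₂.symm _ fun u => e₂.injective ?_
  refine Eq.trans ?_ (e₂.apply_symm_apply _).symm
  obtain ⟨v, rfl⟩ := e₁.surjective u
  rw [LinearEquiv.symm_apply_apply]
  show T.mor₁ ≫ v ≫ _ = (T.mor₁ ≫ v) ≫ _
  exact (Category.assoc _ _ _).symm

variable [DRing.HasLBaseChange (algebraMap A B)]

include hω M in
/-- An element kills the localized morphisms iff it kills the morphisms locally. -/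
theorem smul_hom_lbc_iff (X : Dual.D A) (a : ℤ) [X.IsGE a] (hX : ∀ j, Module.Finite A (Dual.HD A X j)) (r : A)
    (j : ℤ) :
    (∀ v : (DRing.LBaseChange (algebraMap A B)).obj X ⟶ ((DRing.LBaseChange (algebraMap A B)).obj ω)⟦j⟧,
      algebraMap A B r • v = 0) ↔ ∀ u : X ⟶ ω⟦j⟧, ∃ s ∈ M, (s * r) • u = 0 := by
  let S := (model hω).rep
  obtain ⟨e, he⟩ := S.exists_homEquiv M B X j
  have hL := isLoc_hom_ge hω M B X a hX j
  refine ⟨fun h u => ?_, fun h v => ?_⟩
  · obtain ⟨v, hv⟩ := e.surjective (u ≫ (S.η B)⟦j⟧')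
    obtain ⟨s, hs, hs0⟩ := hL.inj (r • u) (by
      show (r • u) ≫ (S.η B)⟦j⟧' = 0
      rw [Linear.smul_comp, ← hv, ← he, h v, map_zero])
    exact ⟨s, hs, by rw [mul_smul, hs0]⟩
  · obtain ⟨s, hs, u, hu⟩ := hL.surj (e v)
    obtain ⟨t, ht, ht0⟩ := h u
    rw [← e.map_eq_zero_iff, he]
    refine S.smul_eq_zero M B X j (s := t * s) (M.mul_mem ht hs) _ ?_
    rw [smul_smul, show t * s * r = t * r * s by ring, mul_smul, ← hu, ← map_smul, ht0, map_zero]

end Loc

section Point

variable (q : PrimeSpectrum A)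

omit [IsNoetherianRing A] in
theorem smul_eq_zero_congr {B : Type u} [CommRing B] {V : Type*} [AddCommGroup V] [Module B V] {W : Type*}
    [AddCommGroup W] [Module B W] (e : V ≃ₗ[B] W) (b : B) : (∀ x : W, b • x = 0) ↔ ∀ x : V, b • x = 0 :=
  ⟨fun h x => e.map_eq_zero_iff.1 (by rw [map_smul, h]), fun h x => by
    obtain ⟨x, rfl⟩ := e.surjective x
    rw [← map_smul, h, map_zero]⟩

/-- Local cohomology at `q` as killing in the localized complex. -/
theorem killAt_iff_HDI [DRing.HasLBaseChange (algebraMap A (Localization.AtPrime q.asIdeal))] {K : Dual.D A}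
    (S : InjRep K) (r : A) (i : ℤ) :
    KillAt S.E r q i ↔ ∀ x : Dual2.HDI (Localization.AtPrime q.asIdeal) (maximalIdeal (Localization.AtPrime q.asIdeal))
      ((DRing.LBaseChange (algebraMap A (Localization.AtPrime q.asIdeal))).obj K) i,
        algebraMap A (Localization.AtPrime q.asIdeal) r • x = 0 := by
  let B := Localization.AtPrime q.asIdeal
  let M := q.asIdeal.primeCompl
  haveI : IsNoetherianRing B := IsLocalization.isNoetherianRing M B ‹_›
  let KB := (DRing.LBaseChange (algebraMap A B)).obj K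
  let SB : InjRep KB :=
    ⟨(DTen.extCx (algebraMap A B)).obj S.E, S.a, fun k hk => DRingLib.isZero_extCx_X _ (S.vanishes k hk),
      fun k => injective_extCx_X M B (S.inj k), (S.lbcIso M B).symm⟩
  let l : ∀ k, S.E.X k →+ SB.E.X k := fun k => ((locUnit B S.E).f k).hom.toAddMonoidHom
  have hl : ∀ k (x : A) y, l k (x • y) = algebraMap A B x • l k y := fun k x y =>
    (((locUnit B S.E).f k).hom.map_smul x y).trans rfl
  have hloc := killAt_iff_killT q B l hl
    (fun k z => by
      haveI := isLocalizedModule_locUnit M B S.E k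
      obtain ⟨⟨y, s⟩, hys⟩ := IsLocalizedModule.surj M ((locUnit B S.E).f k).hom
        (show (locCx B S.E).X k from z)
      exact ⟨y, s, s.2, hys⟩)
    (fun k y hy => by
      haveI := isLocalizedModule_locUnit M B S.E k
      obtain ⟨s, hs⟩ := (IsLocalizedModule.eq_zero_iff M ((locUnit B S.E).f k).hom (m := y)).1 hy
      exact ⟨s, s.2, hs⟩)
    (fun k k' y => LinearMap.congr_fun (congrArg ModuleCat.Hom.hom ((locUnit B S.E).comm k k')) y) S.inj r i
  rw [hloc, killT_iff]
  obtain ⟨e⟩ := exists_HDI_equiv SB (maximalIdeal B) i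
  exact smul_eq_zero_congr e (algebraMap A B r)

include hω in
/-- The local cohomology at `q` up to the value of the dimension function. -/
theorem exists_killAt_iff : ∃ c : ℤ, ∀ (K : Dual.D A) (S : InjRep K) (a : ℤ) [K.IsGE a],
    (∀ j, Module.Finite A (Dual.HD A K j)) → ∀ (r : A) (i : ℤ),
      (KillAt S.E r q i ↔ ∀ u : K ⟶ ω⟦c - i⟧, ∃ s ∉ q.asIdeal, (s * r) • u = 0) := by
  let B := Localization.AtPrime q.asIdeal
  let M := q.asIdeal.primeCompl
  haveI : DRing.HasLBaseChange (algebraMap A B) := DRingLib.hasLBaseChange _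
  haveI : IsNoetherianRing B := IsLocalization.isNoetherianRing M B ‹_›
  have hωB := isDualizing_lbc M B hω
  refine ⟨dfn hωB (closedPoint B), fun K S a _ hK r i => ?_⟩
  let c := dfn hωB (closedPoint B)
  let KB := (DRing.LBaseChange (algebraMap A B)).obj K
  rw [killAt_iff_HDI q S r i, smul_HDI_iff (isDualizing_shift hωB c) (isNormalized_shift hωB) KB
    (fun j => finite_HD_lbc M B (hK j)) (algebraMap A B r) i, sub_eq_add_neg]
  let E := Linear.homCongr B (Iso.refl KB) (shiftShift ((DRing.LBaseChange (algebraMap A B)).obj ω) c (-i))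
  refine Iff.trans ⟨fun h v => ?_, fun h u => ?_⟩ (smul_hom_lbc_iff hω M B K a hK r (c + -i))
  · obtain ⟨u, rfl⟩ := E.surjective v
    rw [← map_smul, h u, map_zero]
  · exact E.map_eq_zero_iff.1 (by rw [map_smul, h])

include hω in
/-- The local cohomology at `q` vanishes or is killed as the dual is. -/
theorem killAt_iff {K : Dual.D A} (S : InjRep K) (a : ℤ) [K.IsGE a] (hK : ∀ j, Module.Finite A (Dual.HD A K j))
    (r : A) (i : ℤ) :
    KillAt S.E r q i ↔ ∀ u : K ⟶ ω⟦dfn hω q - i⟧, ∃ s ∉ q.asIdeal, (s * r) • u = 0 := by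
  obtain ⟨c, hc⟩ := exists_killAt_iff hω q
  suffices c = dfn hω q from this ▸ hc K S a hK r i
  let N := A ⧸ q.asIdeal
  let G := (CochainComplex.singleFunctor (ModuleCat.{u} A) 0).obj (ModuleCat.of A N)
  obtain ⟨E, ι, h1, h2, h3⟩ := CochainComplex.Plus.modelCategoryQuillen.exists_quasiIso_injective G 0
  haveI := h3
  haveI := DRingLib.isIso_Q_map ι h1
  let SN : InjRep (Dual.inD A N) := ⟨E, 0, fun k hk => CochainComplex.isZero_of_isStrictlyGE E 0 k hk,
    fun k => (Module.injective_iff_injective_object A (E.X k)).2 (h2 k),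
    (asIso (DerivedCategory.Q.map ι)).symm ≪≫
      ((DerivedCategory.singleFunctorIsoCompQ (ModuleCat.{u} A) 0).app (ModuleCat.of A N)).symm⟩
  refine eq_dfn hω q c fun hz => ?_
  have hkill : KillAt SN.E 1 q 0 := (hc (Dual.inD A N) SN 0 (finite_HD_inD N) 1 0).2 fun u => by
    let E' := Linear.homCongr A (Iso.refl (Dual.inD A N))
      (eqToIso (congrArg (fun k : ℤ => ω⟦k⟧) (sub_zero c)))
    obtain ⟨s, hs, hs0⟩ := hz (E' u)
    exact ⟨s, hs, E'.map_eq_zero_iff.1 (by rw [map_smul, mul_one, hs0])⟩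
  let z := (shiftFunctorZero (Dual.D A) ℤ).inv.app (Dual.inD A N)
  obtain ⟨f, hf⟩ := SN.toHK_surjective (M := N) 0 z
  have hy : f.1 1 ∈ DRing.torsionSub q.asIdeal (SN.E.X 0) := ⟨1, fun x hx => by
    rw [← map_smul, show x • (1 : N) = 0 by
      rw [Algebra.smul_def, mul_one]
      exact Ideal.Quotient.eq_zero_iff_mem.2 (pow_one q.asIdeal ▸ hx), map_zero]⟩
  obtain ⟨w, -, t, ht, e⟩ := hkill _ hy 1 (one_notMem q) (by rw [one_smul]; exact (SN.mem_Z f.1).1 f.2 1)
  haveI := ModuleCat.subsingleton_of_isZero (SN.vanishes ((0 : ℤ) - 1) (by show (0 : ℤ) - 1 < 0; norm_num))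
  rw [Subsingleton.elim w 0, map_zero, one_smul, zero_sub, smul_neg, neg_eq_zero] at e
  have hz0 : t • z = 0 := by
    rw [← hf]
    refine ((SN.toHK (M := N) 0).map_smul t f).symm.trans ((congrArg (SN.toHK (M := N) 0)
      (show t • f = 0 from Subtype.ext (LinearMap.ext fun x => ?_))).trans (map_zero _))
    obtain ⟨x, rfl⟩ := Ideal.Quotient.mk_surjective x
    show t • f.1 (Ideal.Quotient.mk _ x) = 0
    rw [show Ideal.Quotient.mk q.asIdeal x = x • (1 : N) by rw [Algebra.smul_def, mul_one]; rfl, map_smul,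
      smul_comm, e, smul_zero]
  have hid : sMap (t • LinearMap.id : N →ₗ[A] N) = 0 := by
    rw [← cancel_mono z, Limits.zero_comp, sMap_smul, Linear.smul_comp,
      show sMap (LinearMap.id : N →ₗ[A] N) ≫ z = z from pre_id (Dual.inD A N) 0 z, hz0]
  have h0 : ModuleCat.ofHom (t • LinearMap.id : N →ₗ[A] N) = 0 :=
    (DerivedCategory.singleFunctor (ModuleCat.{u} A) 0).map_injective (hid.trans (Functor.map_zero _ _ _).symm)
  refine ht ?_
  have h1' : t • (1 : N) = 0 := congr($(h0).hom 1)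
  rw [Algebra.smul_def, mul_one] at h1'
  exact Ideal.Quotient.eq_zero_iff_mem.1 h1'

end Point

end Groth.Agent.FaltingsAnnLib
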