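import Groth.Agent.FaltingsAnnLib.Completion
import Groth.Agent.CechComplLib.Aug

/-!
# Exact sequences for completed local cohomology of modules
-/

set_option autoImplicit false
set_option linter.style.haveILetI false
set_option backward.isDefEq.respectTransparency false

universe u

open CategoryTheory Limits Pretriangulated
open scoped Pointwise
attribute [local instance] HasDerivedCategory.standard

noncomputable section

namespace Groth.Agent.FaltingsAnnLib

open TorsCoreflLib (PT NoTors NoCompl map_smul_id)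

variable {A : Type u} [CommRing A] (J : Ideal A)

theorem exists_pow_smul_of_pt {X : Dual.D A} (h : PT J X) {a : A} (ha : a ∈ J) (i : ℤ) (x : Dual.HD A X i) :
    ∃ n : ℕ, a ^ n • x = 0 := let ⟨n, hn⟩ := h i x; ⟨n, hn _ (Ideal.pow_mem_pow ha n)⟩

variable [IsNoetherianRing A]

theorem isPowerTorsion_of_elementwise {N : Type u} [AddCommGroup N] [Module A N]
    (h : ∀ x : N, ∀ a ∈ J, ∃ n : ℕ, a ^ n • x = 0) : LocCoh.IsPowerTorsion J N := fun x => by
  have hle : J ≤ (Submodule.colon (⊥ : Submodule A N) {x}).radical := fun a ha => by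
    obtain ⟨n, hn⟩ := h x a ha
    exact ⟨n, Submodule.mem_colon_singleton.2 ((Submodule.mem_bot A).2 hn)⟩
  obtain ⟨n, hn⟩ := Ideal.exists_pow_le_of_le_radical_of_fg hle (IsNoetherian.noetherian J)
  exact ⟨n, fun a ha => (Submodule.mem_bot A).1 (Submodule.mem_colon_singleton.1 (hn ha))⟩

theorem pt_obj₃ (T : Triangle (Dual.D A)) (hT : T ∈ distTriang _) (h₁ : PT J T.obj₁) (h₂ : PT J T.obj₂) :
    PT J T.obj₃ := fun n => isPowerTorsion_of_elementwise J fun x a ha => by
  have h := (ShortComplex.ShortExact.moduleCat_exact_iff_function_exact _).1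
    (DerivedCategory.HomologySequence.exact₃ T hT n (n + 1))
  let δ := (DerivedCategory.HomologySequence.δ T n (n + 1) rfl).hom
  obtain ⟨k, hk⟩ := exists_pow_smul_of_pt J h₁ ha (n + 1) (δ x)
  obtain ⟨y, hy⟩ := (h (a ^ k • x)).1 (by
    show δ (a ^ k • x) = 0
    rw [map_smul]
    exact hk)
  obtain ⟨m, hm⟩ := exists_pow_smul_of_pt J h₂ ha n y
  refine ⟨m + k, ?_⟩
  rw [pow_add, mul_smul, ← hy]
  exact (map_smul _ _ _).symm.trans ((congrArg _ hm).trans (map_zero _))

omit [IsNoetherianRing A] in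
theorem bijective_postcomp_shift {X Y : Dual.D A} (a : X ⟶ Y) (m : ℤ)
    (h : ∀ T : Dual.D A, PT J T → Function.Bijective fun g : T ⟶ X => g ≫ a) (T : Dual.D A) (hT : PT J T) :
    Function.Bijective fun g : T ⟶ X⟦m⟧ => g ≫ a⟦m⟧' := by
  let adj := (shiftEquiv (Dual.D A) m).symm.toAdjunction
  have e : (fun g : T ⟶ X⟦m⟧ => g ≫ a⟦m⟧') =
      adj.homEquiv T Y ∘ (fun g => g ≫ a) ∘ (adj.homEquiv T X).symm := funext fun g =>
    ((adj.homEquiv T Y).symm_apply_eq.1 (adj.homEquiv_naturality_right_symm g a))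
  rw [e]
  exact (Equiv.bijective _).comp ((h _ (TorsCoreflLib.tors_shift J hT (-m))).comp (Equiv.bijective _))

omit [IsNoetherianRing A] in
/-- The five lemma for composition along a morphism of triangles. -/
theorem bijective_postcomp₃ {T T' : Triangle (Dual.D A)} (hT : T ∈ distTriang _) (hT' : T' ∈ distTriang _)
    (m : T ⟶ T') (h₁ : ∀ W : Dual.D A, PT J W → Function.Bijective fun g : W ⟶ T.obj₁ => g ≫ m.hom₁)
    (h₂ : ∀ W : Dual.D A, PT J W → Function.Bijective fun g : W ⟶ T.obj₂ => g ≫ m.hom₂)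
    (W : Dual.D A) (hW : PT J W) : Function.Bijective fun g : W ⟶ T.obj₃ => g ≫ m.hom₃ := by
  have h₁' := bijective_postcomp_shift J m.hom₁ 1 h₁ W hW
  have h₂' := bijective_postcomp_shift J m.hom₂ 1 h₂ W hW
  refine ⟨fun g g' h => sub_eq_zero.1 ?_, fun ψ => ?_⟩
  · set φ := g - g'
    have h0 : φ ≫ m.hom₃ = 0 := by rw [Preadditive.sub_comp]; exact sub_eq_zero.2 h
    have e1 : φ ≫ T.mor₃ = 0 := h₁'.1 (by
      show (φ ≫ T.mor₃) ≫ m.hom₁⟦(1 : ℤ)⟧' = 0 ≫ m.hom₁⟦(1 : ℤ)⟧'
      rw [Category.assoc, m.comm₃, ← Category.assoc, h0, zero_comp, zero_comp])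
    obtain ⟨k, hk⟩ := T.coyoneda_exact₃ hT φ e1
    have e2 : (k ≫ m.hom₂) ≫ T'.mor₂ = 0 := by
      rw [Category.assoc, ← m.comm₂, ← Category.assoc, ← hk, h0]
    obtain ⟨l, hl⟩ := T'.coyoneda_exact₂ hT' _ e2
    obtain ⟨l', hl'⟩ := (h₁ W hW).2 l
    have e3 : k = l' ≫ T.mor₁ := (h₂ W hW).1 (by
      show k ≫ m.hom₂ = (l' ≫ T.mor₁) ≫ m.hom₂
      rw [hl, Category.assoc, m.comm₁, ← Category.assoc, show l' ≫ m.hom₁ = l from hl'])
    rw [hk, e3, Category.assoc, comp_distTriang_mor_zero₁₂ _ hT, comp_zero]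
  · obtain ⟨b, hb⟩ := h₁'.2 (ψ ≫ T'.mor₃)
    change b ≫ m.hom₁⟦(1 : ℤ)⟧' = _ at hb
    have e1 : b ≫ T.mor₁⟦(1 : ℤ)⟧' = 0 := h₂'.1 (by
      show (b ≫ T.mor₁⟦(1 : ℤ)⟧') ≫ m.hom₂⟦(1 : ℤ)⟧' = 0 ≫ m.hom₂⟦(1 : ℤ)⟧'
      rw [zero_comp, Category.assoc, ← Functor.map_comp, m.comm₁, Functor.map_comp, ← Category.assoc, hb,
        Category.assoc, comp_distTriang_mor_zero₃₁ _ hT', comp_zero])
    obtain ⟨c, hc⟩ := T.coyoneda_exact₁ hT b e1
    obtain ⟨e, he⟩ := T'.coyoneda_exact₃ hT' (ψ - c ≫ m.hom₃) (by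
      rw [Preadditive.sub_comp, Category.assoc, ← m.comm₃, ← Category.assoc, ← hc, hb, sub_self])
    obtain ⟨e', he'⟩ := (h₂ W hW).2 e
    refine ⟨c + e' ≫ T.mor₂, ?_⟩
    show (c + e' ≫ T.mor₂) ≫ m.hom₃ = ψ
    rw [Preadditive.add_comp, Category.assoc e', m.comm₂, ← Category.assoc e',
      show e' ≫ m.hom₂ = e from he', ← he]
    abel

variable [DRing.HasRgammaI J]

theorem RgammaI_map_smul_id (a : A) (K : Dual.D A) :
    (DRing.RgammaI J).map (a • 𝟙 K) = a • 𝟙 _ := by
  refine (TorsCoreflLib.comp_ε_bijective J _ K (TorsCoreflLib.torsion_RgammaI J K)).1 ?_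
  show (DRing.RgammaI J).map (a • 𝟙 K) ≫ _ = (a • 𝟙 _) ≫ _
  have h := (DRing.RgammaIε J).naturality (a • 𝟙 K)
  simp only [Functor.id_map, Functor.id_obj] at h
  rw [h, Linear.smul_comp, Category.id_comp]
  exact (Linear.comp_smul _ _ _ _ a (𝟙 K)).trans (congrArg (a • ·) (Category.comp_id _))

variable (I : Ideal A) [DRing.HasDerivedCompletion I]

omit [IsNoetherianRing A] in
theorem completion_map_smul_id (a : A) (K : Dual.D A) :
    ((DRing.derivedCompletion I).map (a • 𝟙 K)).hom = a • 𝟙 _ := by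
  have h := DComplLib.isCompl_toDerivedCompletion (I := I) K
  refine h.hom_ext h.mem ?_
  have hn : DRing.toDerivedCompletion I K ≫ ((DRing.derivedCompletion I).map (a • 𝟙 K)).hom =
      (a • 𝟙 K) ≫ DRing.toDerivedCompletion I K :=
    ((DRing.derivedCompletionAdj I).unit.naturality (a • 𝟙 K)).symm
  rw [hn, Linear.smul_comp, Category.id_comp, Linear.comp_smul, Category.comp_id]

/-- The completed local cohomology of a module. -/
abbrev cX (M : Type u) [AddCommGroup M] [Module A M] : Dual.D A :=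
  ((DRing.derivedCompletion I).obj ((DRing.RgammaI J).obj (Dual.inD A M))).obj

/-- The map of completed local cohomology induced by a linear map. -/
abbrev cXmap {M N : Type u} [AddCommGroup M] [Module A M] [AddCommGroup N] [Module A N] (f : M →ₗ[A] N) :
    cX J I M ⟶ cX J I N :=
  ((DRing.derivedCompletion I).map ((DRing.RgammaI J).map
    ((DerivedCategory.singleFunctor (ModuleCat.{u} A) 0).map (ModuleCat.ofHom f)))).hom

theorem cXmap_smul (a : A) (M : Type u) [AddCommGroup M] [Module A M] :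
    cXmap J I (a • (LinearMap.id : M →ₗ[A] M)) = a • 𝟙 (cX J I M) := by
  have e : (DerivedCategory.singleFunctor (ModuleCat.{u} A) 0).map (ModuleCat.ofHom (a • (LinearMap.id : M →ₗ[A] M))) =
      a • 𝟙 (Dual.inD A M) := by
    rw [show ModuleCat.ofHom (a • (LinearMap.id : M →ₗ[A] M)) = a • 𝟙 (ModuleCat.of A M) from rfl,
      Functor.map_smul, CategoryTheory.Functor.map_id]
  rw [cXmap, e, RgammaI_map_smul_id, completion_map_smul_id]

theorem smul_HD_cX_eq_zero (a : A) (M : Type u) [AddCommGroup M] [Module A M] (h : ∀ x : M, a • x = 0) (i : ℤ)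
    (x : Dual.HD A (cX J I M) i) : a • x = 0 := by
  have e : (DerivedCategory.singleFunctor (ModuleCat.{u} A) 0).map (a • 𝟙 (ModuleCat.of A M)) = 0 := by
    rw [show a • 𝟙 (ModuleCat.of A M) = 0 from ModuleCat.hom_ext (LinearMap.ext h)]
    exact Functor.map_zero _ _ _
  rw [Functor.map_smul, CategoryTheory.Functor.map_id] at e
  have hz : a • 𝟙 (cX J I M) = 0 := by
    have h0 : ∀ c : A, a • 𝟙 (Dual.inD A M) = c • 𝟙 (Dual.inD A M) → a • 𝟙 (cX J I M) = c • 𝟙 (cX J I M) :=
      fun c hc => by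
        rw [cX, ← completion_map_smul_id I a, ← completion_map_smul_id I c, ← RgammaI_map_smul_id J a,
          ← RgammaI_map_smul_id J c, hc]
    simpa using h0 0 (e.trans (zero_smul A (𝟙 (Dual.inD A M))).symm)
  have h2 := congrArg (fun t => (DerivedCategory.homologyFunctor (ModuleCat.{u} A) i).map t) hz
  rw [map_smul_id, Functor.map_zero] at h2
  exact congr($(h2).hom x)

/-- A short exact sequence of modules gives a triangle of completed local cohomology. -/
theorem exists_triangle_cX {M' M M'' : Type u} [AddCommGroup M'] [Module A M'] [AddCommGroup M] [Module A M]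
    [AddCommGroup M''] [Module A M''] (f : M' →ₗ[A] M) (g : M →ₗ[A] M'') (hf : Function.Injective f)
    (hg : Function.Surjective g) (hfg : Function.Exact f g) :
    ∃ (a : cX J I M ⟶ cX J I M'') (b : cX J I M'' ⟶ (cX J I M')⟦(1 : ℤ)⟧),
      Triangle.mk (cXmap J I f) a b ∈ distTriang (Dual.D A) := by
  let S : ShortComplex (ModuleCat.{u} A) := ShortComplex.mk (ModuleCat.ofHom f) (ModuleCat.ofHom g)
    (by ext x; exact hfg.apply_apply_eq_zero x)
  have hS : S.ShortExact :=
    { exact := (ShortComplex.ShortExact.moduleCat_exact_iff_function_exact _).2 hfg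
      mono_f := (ModuleCat.mono_iff_injective _).2 hf
      epi_g := (ModuleCat.epi_iff_surjective _).2 hg }
  let T' := hS.singleTriangle
  have hT' : T' ∈ distTriang _ := hS.singleTriangle_distinguished
  let F := DRing.RgammaI J
  let ε := DRing.RgammaIε J
  obtain ⟨N, a, b, hN⟩ := distinguished_cocone_triangle (F.map T'.mor₁)
  obtain ⟨e, he₁, he₂⟩ := complete_distinguished_triangle_morphism (Triangle.mk (F.map T'.mor₁) a b) T' hN hT'
    (ε.app T'.obj₁) (ε.app T'.obj₂) (ε.naturality T'.mor₁)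
  have hptN : PT J N := pt_obj₃ J _ hN (TorsCoreflLib.torsion_RgammaI J _) (TorsCoreflLib.torsion_RgammaI J _)
  have hb : ∀ W : Dual.D A, PT J W → Function.Bijective fun φ : W ⟶ N => φ ≫ e := fun W hW =>
    bijective_postcomp₃ J (T := Triangle.mk (F.map T'.mor₁) a b) (T' := T') hN hT'
      (Triangle.homMk _ _ (ε.app T'.obj₁) (ε.app T'.obj₂) e (ε.naturality T'.mor₁) he₁ he₂)
      (fun V hV => TorsCoreflLib.comp_ε_bijective J V _ hV) (fun V hV => TorsCoreflLib.comp_ε_bijective J V _ hV) W hW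
  obtain ⟨θ, -⟩ := CechComplLib.exists_iso_RgammaI J (K := Dual.inD A M'') (e := e) hptN hb
  obtain ⟨N', a', b', η, hT, hη⟩ := DComplLib.exists_cone_completion (I := I) (F.map T'.mor₁) a b hN
  obtain ⟨c, -⟩ := (hη.of_iso θ.symm).exists_iso
    (DComplLib.isCompl_toDerivedCompletion (I := I) ((DRing.RgammaI J).obj (Dual.inD A M'')))
  refine ⟨a' ≫ c.hom, c.inv ≫ b', Pretriangulated.isomorphic_distinguished _ hT _ ?_⟩
  exact Triangle.isoMk _ _ (Iso.refl _) (Iso.refl _) c.symm (by simp; rfl) (by simp) (by simp)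

variable {M' M M'' : Type u} [AddCommGroup M'] [Module A M'] [AddCommGroup M] [Module A M]
  [AddCommGroup M''] [Module A M''] (f : M' →ₗ[A] M) (g : M →ₗ[A] M'') (hf : Function.Injective f)
  (hg : Function.Surjective g) (hfg : Function.Exact f g)

include hf hg hfg in
/-- Annihilators of the outer terms multiply to an annihilator of the middle one. -/
theorem smul_cX_of_ext {a c : A} (i : ℤ) (h' : ∀ x : Dual.HD A (cX J I M') i, a • x = 0)
    (h'' : ∀ x : Dual.HD A (cX J I M'') i, c • x = 0) (x : Dual.HD A (cX J I M) i) : (a * c) • x = 0 := by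
  obtain ⟨u, v, hT⟩ := exists_triangle_cX J I f g hf hg hfg
  have h := (ShortComplex.ShortExact.moduleCat_exact_iff_function_exact _).1
    (DerivedCategory.HomologySequence.exact₂ _ hT i)
  obtain ⟨y, hy⟩ := (h (c • x)).1 (by
    refine (map_smul _ c x).trans ?_
    exact h'' _)
  rw [mul_smul, ← hy]
  exact (map_smul _ a y).symm.trans ((congrArg _ (h' y)).trans (map_zero _))

/-- Torsion in the completed local cohomology comes from the quotient by a regular element. -/
theorem smul_cX_of_torsion {x a : A} (hx : IsSMulRegular M x) (i : ℤ)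
    (h : ∀ y : Dual.HD A (cX J I (QuotSMulTop x M)) i, a • y = 0) (y : Dual.HD A (cX J I M) (i + 1))
    (hy : x • y = 0) : a • y = 0 := by
  let f : M →ₗ[A] M := x • LinearMap.id
  have hex : Function.Exact f (Submodule.mkQ (x • ⊤ : Submodule A M)) := by
    rw [LinearMap.exact_iff, Submodule.ker_mkQ, ← Submodule.map_top]
    rfl
  obtain ⟨u, v, hT⟩ := exists_triangle_cX J I f _ (fun _ _ e => hx e) (Submodule.mkQ_surjective _) hex
  have h1 := (ShortComplex.ShortExact.moduleCat_exact_iff_function_exact _).1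
    (DerivedCategory.HomologySequence.exact₁ _ hT i (i + 1))
  obtain ⟨z, hz⟩ := (h1 y).1 (by
    show ((DerivedCategory.homologyFunctor (ModuleCat.{u} A) (i + 1)).map (cXmap J I f)).hom y = 0
    rw [cXmap_smul, map_smul_id]
    exact hy)
  rw [← hz]
  exact (map_smul _ a z).symm.trans ((congrArg _ (h z)).trans (map_zero _))

end Groth.Agent.FaltingsAnnLib
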