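import Groth.Agent.LocCohLib.Torsion
import Groth.Prelude.Def_DualLC

/-!
# Elements supported in a subset of the spectrum
-/

set_option autoImplicit false
set_option linter.style.haveILetI false

universe u v

noncomputable section

namespace Groth.Agent.FaltingsAnnLib

variable {A : Type u} [CommRing A]

/-- The elements supported in `T`. -/
def gamma (T : Set (PrimeSpectrum A)) (M : Type v) [AddCommGroup M] [Module A M] : Submodule A M where
  carrier := {x | ∀ p ∉ T, ∃ s ∉ p.asIdeal, s • x = 0}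
  zero_mem' p _ := ⟨1, fun h => p.2.ne_top ((Ideal.eq_top_iff_one _).2 h), smul_zero _⟩
  add_mem' {x y} hx hy p hp := by
    obtain ⟨s, hs, hs0⟩ := hx p hp
    obtain ⟨t, ht, ht0⟩ := hy p hp
    exact ⟨s * t, p.2.mul_notMem hs ht, by
      rw [smul_add, mul_comm s t, mul_smul, hs0, smul_zero, zero_add, mul_comm t s, mul_smul, ht0, smul_zero]⟩
  smul_mem' a x hx p hp := by
    obtain ⟨s, hs, hs0⟩ := hx p hp
    exact ⟨s, hs, by rw [smul_comm, hs0, smul_zero]⟩

variable {T T' : Set (PrimeSpectrum A)} {M : Type v} [AddCommGroup M] [Module A M] {N : Type v} [AddCommGroup N]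
  [Module A N]

theorem mem_gamma {x : M} : x ∈ gamma T M ↔ ∀ p ∉ T, ∃ s ∉ p.asIdeal, s • x = 0 := Iff.rfl

theorem map_mem_gamma (f : M →ₗ[A] N) {x : M} (hx : x ∈ gamma T M) : f x ∈ gamma T N := fun p hp => by
  obtain ⟨s, hs, hs0⟩ := hx p hp
  exact ⟨s, hs, by rw [← map_smul, hs0, map_zero]⟩

theorem gamma_mono (h : T ⊆ T') : gamma T M ≤ gamma T' M := fun _ hx p hp => hx p fun hT => hp (h hT)

theorem mem_gamma_of_smul {x : M} (J : Ideal A) (hJ : PrimeSpectrum.zeroLocus (J : Set A) ⊆ T)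
    (h : ∀ a ∈ J, a • x = 0) : x ∈ gamma T M := fun p hp => by
  obtain ⟨s, hs, hsp⟩ := SetLike.not_le_iff_exists.1 fun hle : J ≤ p.asIdeal =>
    hp (hJ ((PrimeSpectrum.mem_zeroLocus _ _).2 hle))
  exact ⟨s, hsp, h s hs⟩

/-- The annihilator of an element. -/
abbrev annElt (x : M) : Ideal A := LinearMap.ker (LinearMap.toSpanSingleton A M x)

theorem mem_annElt {x : M} {a : A} : a ∈ annElt x ↔ a • x = 0 := LinearMap.mem_ker

theorem zeroLocus_annElt_subset {x : M} (hx : x ∈ gamma T M) :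
    PrimeSpectrum.zeroLocus (annElt (A := A) x : Set A) ⊆ T := fun p hp => by
  by_contra h
  obtain ⟨s, hs, hs0⟩ := hx p h
  exact hs ((PrimeSpectrum.mem_zeroLocus _ _).1 hp (mem_annElt.2 hs0))

theorem eq_zero_of_forall_prime {x : M} (h : ∀ p : PrimeSpectrum A, ∃ s ∉ p.asIdeal, s • x = 0) : x = 0 := by
  by_contra hx
  have hne : annElt (A := A) x ≠ ⊤ := fun he => hx (by
    rw [← one_smul A x]; exact mem_annElt.1 ((Ideal.eq_top_iff_one _).1 he))
  obtain ⟨m, hm, hle⟩ := Ideal.exists_le_maximal _ hne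
  obtain ⟨s, hs, hs0⟩ := h ⟨m, hm.isPrime⟩
  exact hs (hle (mem_annElt.2 hs0))

theorem gamma_empty (x : M) (hx : x ∈ gamma (∅ : Set (PrimeSpectrum A)) M) : x = 0 :=
  eq_zero_of_forall_prime fun p => hx p (Set.notMem_empty p)

theorem torsionSub_le_gamma {M : Type u} [AddCommGroup M] [Module A M] (I : Ideal A)
    (h : PrimeSpectrum.zeroLocus (I : Set A) ⊆ T) : DRing.torsionSub I M ≤ gamma T M := fun x hx p hp => by
  obtain ⟨n, hn⟩ := hx
  obtain ⟨s, hs, hsp⟩ := SetLike.not_le_iff_exists.1 fun hle : I ≤ p.asIdeal =>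
    hp (h ((PrimeSpectrum.mem_zeroLocus _ _).2 hle))
  exact ⟨s ^ n, fun hm => hsp (p.2.mem_of_pow_mem n hm), hn _ (Ideal.pow_mem_pow hs n)⟩

variable [IsNoetherianRing A]

theorem mem_torsionSub_iff_gamma {M : Type u} [AddCommGroup M] [Module A M] (I : Ideal A) (x : M) :
    x ∈ DRing.torsionSub I M ↔ x ∈ gamma (PrimeSpectrum.zeroLocus (I : Set A)) M := by
  refine ⟨fun h => torsionSub_le_gamma I subset_rfl h, fun h => ?_⟩
  have hle : I ≤ (annElt (A := A) x).radical := by
    rw [← PrimeSpectrum.vanishingIdeal_zeroLocus_eq_radical]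
    exact (PrimeSpectrum.subset_zeroLocus_iff_le_vanishingIdeal _ _).1 (zeroLocus_annElt_subset h)
  obtain ⟨n, hn⟩ := Ideal.exists_pow_le_of_le_radical_of_fg hle (IsNoetherian.noetherian I)
  exact ⟨n, fun a ha => mem_annElt.1 (hn ha)⟩

/-- Elements supported in `T` of an injective module form an injective module. -/
theorem exists_extend_gamma {E : Type u} [AddCommGroup E] [Module A E] [Module.Injective A E] (I : Ideal A)
    (f : I →ₗ[A] gamma T E) : ∃ g : A →ₗ[A] gamma T E, ∀ x : I, g x = f x := by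
  classical
  obtain ⟨s, hs⟩ := (Module.Finite.fg_top : (⊤ : Submodule A I).FG)
  let c : Ideal A := ∏ x ∈ s, annElt (A := A) (f x : E)
  have hcT : PrimeSpectrum.zeroLocus (c : Set A) ⊆ T := fun p hp => by
    obtain ⟨x, -, hx⟩ := p.2.prod_le.1 ((PrimeSpectrum.mem_zeroLocus _ _).1 hp)
    exact zeroLocus_annElt_subset (f x).2 ((PrimeSpectrum.mem_zeroLocus _ _).2 hx)
  have hkill : ∀ a ∈ c, ∀ x : I, a • (f x : E) = 0 := fun a ha x => by
    have hx : x ∈ Submodule.span A (s : Set I) := hs ▸ Submodule.mem_top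
    induction hx using Submodule.span_induction with
    | mem y hy => exact mem_annElt.1 (Ideal.prod_le_inf.trans (Finset.inf_le hy) ha)
    | zero => simp
    | add y z _ _ hy hz => rw [map_add, Submodule.coe_add, smul_add, hy, hz, add_zero]
    | smul r y _ hy => rw [map_smul, Submodule.coe_smul, smul_comm, hy, smul_zero]
  obtain ⟨k, hk⟩ := Ideal.exists_pow_inf_eq_pow_smul c (N := I)
  let D : Ideal A := c ^ (k + 1)
  have hD : ∀ x : I, (x : A) ∈ D → (f x : E) = 0 := fun x hx => by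
    have hx' : (x : A) ∈ (c ^ (k + 1) • ⊤ : Submodule A A) ⊓ I :=
      ⟨by rw [smul_eq_mul, Ideal.mul_top]; exact hx, x.2⟩
    rw [hk (k + 1) (Nat.le_succ k), show k + 1 - k = 1 by omega, pow_one] at hx'
    have h2 : (x : A) ∈ (c • I : Submodule A A) := Submodule.smul_mono le_rfl inf_le_right hx'
    suffices ∀ y ∈ (c • I : Submodule A A), ∀ hy : y ∈ I, (f ⟨y, hy⟩ : E) = 0 from this _ h2 x.2
    intro y hy
    induction hy using Submodule.smul_induction_on' with
    | smul r hr z hz =>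
      intro hrz
      rw [show (⟨r • z, hrz⟩ : I) = r • ⟨z, hz⟩ from rfl, map_smul]
      exact hkill r hr ⟨z, hz⟩
    | add y hy z hz ihy ihz =>
      intro hyz
      have hy' : y ∈ I := Submodule.smul_le_right hy
      have hz' : z ∈ I := Submodule.smul_le_right hz
      rw [show (⟨y + z, hyz⟩ : I) = ⟨y, hy'⟩ + ⟨z, hz'⟩ from rfl, map_add, Submodule.coe_add, ihy hy', ihz hz',
        add_zero]
  let j : (I ⧸ Submodule.comap I.subtype D) →ₗ[A] (A ⧸ D) := Submodule.mapQ _ D I.subtype fun _ hx => hx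
  have hj : Function.Injective j := by
    refine (injective_iff_map_eq_zero _).2 fun z hz => ?_
    obtain ⟨z, rfl⟩ := Submodule.Quotient.mk_surjective _ z
    exact (Submodule.Quotient.mk_eq_zero _).2 ((Submodule.Quotient.mk_eq_zero D).1 hz : (z : A) ∈ D)
  let f' : (I ⧸ Submodule.comap I.subtype D) →ₗ[A] E :=
    Submodule.liftQ _ ((gamma T E).subtype ∘ₗ f) fun x hx => hD x hx
  obtain ⟨g, hg⟩ := (‹Module.Injective A E›).out j hj f'
  have hgT : ∀ z, g z ∈ gamma T E := fun z => map_mem_gamma g (mem_gamma_of_smul D (fun p hp => hcT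
      ((PrimeSpectrum.mem_zeroLocus _ _).2 (p.2.le_of_pow_le ((PrimeSpectrum.mem_zeroLocus _ _).1 hp))))
    fun a ha => by
      obtain ⟨z, rfl⟩ := Submodule.Quotient.mk_surjective _ z
      rw [← Submodule.Quotient.mk_smul, Submodule.Quotient.mk_eq_zero]
      exact D.mul_mem_right _ ha)
  exact ⟨(g.codRestrict _ hgT) ∘ₗ D.mkQ, fun x => Subtype.ext (hg (Submodule.Quotient.mk x))⟩

theorem injective_gamma (E : Type u) [AddCommGroup E] [Module A E] [Module.Injective A E] :
    Module.Injective A (gamma T E) :=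
  Module.Baer.injective fun I f => by
    obtain ⟨g, hg⟩ := exists_extend_gamma I f
    exact ⟨g, fun x hx => hg ⟨x, hx⟩⟩

omit [IsNoetherianRing A] in
/-- Division in an injective module up to torsion. -/
theorem exists_div [IsNoetherianRing A] {X : Type u} [AddCommGroup X] [Module A X] [Module.Injective A X] (t : A)
    (x : X) : ∃ (n : ℕ) (w : X), t ^ (n + 1) • w = t ^ n • x := by
  let F : ℕ →o Ideal A := ⟨fun n => LinearMap.ker (LinearMap.toSpanSingleton A A (t ^ n)), fun m n h a ha => by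
    rw [LinearMap.mem_ker, LinearMap.toSpanSingleton_apply, smul_eq_mul] at ha ⊢
    obtain ⟨d, rfl⟩ := Nat.exists_eq_add_of_le h
    rw [pow_add, ← mul_assoc, ha, zero_mul]⟩
  obtain ⟨n, hn⟩ := monotone_stabilizes_iff_noetherian.2 (inferInstance : IsNoetherianRing A) F
  let g : A →ₗ[A] A := LinearMap.toSpanSingleton A A (t ^ (n + 1))
  let h : A →ₗ[A] X := LinearMap.toSpanSingleton A X (t ^ n • x)
  have hker : LinearMap.ker g ≤ LinearMap.ker h := fun a ha => by
    have ha' : a ∈ F n := hn (n + 1) (Nat.le_succ n) ▸ (ha : a ∈ F (n + 1))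
    have ha'' : a * t ^ n = 0 := ha'
    rw [LinearMap.mem_ker, LinearMap.toSpanSingleton_apply, smul_smul, ha'', zero_smul]
  obtain ⟨φ, hφ⟩ := (‹Module.Injective A X›).out ((LinearMap.ker g).liftQ g le_rfl)
    (LinearMap.ker_eq_bot.1 (Submodule.ker_liftQ_eq_bot _ _ _ le_rfl)) ((LinearMap.ker g).liftQ h hker)
  refine ⟨n, φ 1, ?_⟩
  have h1 : φ (1 * t ^ (n + 1)) = (1 : A) • t ^ n • x := hφ (Submodule.Quotient.mk 1)
  rw [one_mul, one_smul] at h1
  rw [← map_smul, smul_eq_mul, mul_one]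
  exact h1

end Groth.Agent.FaltingsAnnLib
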