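import Groth.Agent.FaltingsAnnLib.Main
import Groth.Agent.LocCohLib.Change

/-!
# Change of the supports
-/

set_option autoImplicit false
set_option linter.style.haveILetI false
set_option backward.isDefEq.respectTransparency false
set_option maxRecDepth 4000

universe u

open CategoryTheory
attribute [local instance] HasDerivedCategory.standard

noncomputable section

namespace Groth.Agent.FaltingsAnnLib

open DualCxLib (InjRep)

variable {A : Type u} [CommRing A] {Y : DRing.Cx A} {T T' T'' : Set (PrimeSpectrum A)} {i : ℤ}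

theorem inclT_aux (h : T ⊆ T') (x : ZT Y T i) : (x : Y.X i) ∈ ZT Y T' i := ⟨gamma_mono h x.2.1, x.2.2⟩

/-- The comparison map for larger supports. -/
def inclT (h : T ⊆ T') : HYT Y T i →ₗ[A] HYT Y T' i :=
  Submodule.mapQ (BT Y T i) (BT Y T' i) ((ZT Y T i).subtype.codRestrict (ZT Y T' i) (inclT_aux h))
    (by rintro x ⟨w, hw, e⟩; exact ⟨w, gamma_mono h hw, e⟩)

theorem inclT_mk (h : T ⊆ T') (x : ZT Y T i) :
    inclT h (Submodule.Quotient.mk x : HYT Y T i) = Submodule.Quotient.mk ⟨x.1, inclT_aux h x⟩ := rfl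

theorem inclT_inclT (h : T ⊆ T') (h' : T' ⊆ T'') (x : HYT Y T i) :
    inclT h' (inclT h x) = inclT (h.trans h') x := by
  obtain ⟨x, rfl⟩ := Submodule.Quotient.mk_surjective _ x
  rfl

theorem inclT_self (x : HYT Y T i) : inclT (subset_refl T) x = x := by
  obtain ⟨x, rfl⟩ := Submodule.Quotient.mk_surjective _ x
  rfl

theorem bijective_inclT_of_subset (h : T ⊆ T') (h' : T' ⊆ T) : Function.Bijective (inclT (Y := Y) (i := i) h) :=
  Function.bijective_iff_has_inverse.2 ⟨inclT h', fun x => by rw [inclT_inclT, inclT_self], fun x => by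
    rw [inclT_inclT, inclT_self]⟩

theorem mem_gamma_inter {M : Type u} [AddCommGroup M] [Module A M] {x : M} {g : A} {n : ℕ} (hx : x ∈ gamma T M)
    (h : g ^ n • x = 0) : x ∈ gamma (T ∩ {p : PrimeSpectrum A | g ∈ p.asIdeal}) M := fun p hp => by
  by_cases hpT : p ∈ T
  · exact ⟨g ^ n, fun hc => hp ⟨hpT, p.2.mem_of_pow_mem n hc⟩, h⟩
  · exact hx p hpT

theorem exists_pow_of_mem_gamma {M : Type u} [AddCommGroup M] [Module A M] {x : M} {g : A}
    (hx : x ∈ gamma (T ∩ {p : PrimeSpectrum A | g ∈ p.asIdeal}) M) : ∃ n : ℕ, g ^ n • x = 0 := by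
  have h : g ∈ (annElt (A := A) x).radical := by
    rw [Ideal.radical_eq_sInf, Ideal.mem_sInf]
    rintro P ⟨hle, hP⟩
    exact (zeroLocus_annElt_subset hx ((PrimeSpectrum.mem_zeroLocus _ _).2 hle : (⟨P, hP⟩ : PrimeSpectrum A) ∈ _)).2
  obtain ⟨n, hn⟩ := h
  exact ⟨n, mem_annElt.1 hn⟩

variable [IsNoetherianRing A] (hinj : ∀ i, Module.Injective A (Y.X i)) {s : ℤ}

include hinj in
/-- Cutting the supports down by an element acting nilpotently. -/
theorem bijective_inclT_inter (g : A) (hg : ∀ j ≤ s, ∀ x : HYT Y T j, ∃ n : ℕ, g ^ n • x = 0) (hi : i ≤ s) :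
    Function.Bijective (inclT (Y := Y) (i := i) (Set.inter_subset_left : T ∩ {p : PrimeSpectrum A | g ∈ p.asIdeal} ⊆ T)) := by
  haveI := hinj (i - 1)
  haveI := hinj (i - 1 - 1)
  haveI := injective_gamma (T := T) (Y.X (i - 1))
  haveI := injective_gamma (T := T) (Y.X (i - 1 - 1))
  refine ⟨(injective_iff_map_eq_zero _).2 fun x hx => ?_, fun x => ?_⟩
  · obtain ⟨⟨z, hz, hdz⟩, rfl⟩ := Submodule.Quotient.mk_surjective _ x
    rw [inclT_mk, Submodule.Quotient.mk_eq_zero] at hx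
    obtain ⟨w, hw, e⟩ := hx
    obtain ⟨k, hk⟩ := exists_pow_of_mem_gamma hz
    have hcyc : Y.d (i - 1) (i - 1 + 1) (g ^ k • w) = 0 := by
      have h0 : Y.d (i - 1) i (g ^ k • w) = 0 := by
        rw [map_smul, show Y.d (i - 1) i w = z from e, hk]
      exact mem_ker_d_of_eq (by omega) h0
    obtain ⟨n, hn⟩ := hg (i - 1) (by omega) (Submodule.Quotient.mk ⟨g ^ k • w, Submodule.smul_mem _ _ hw, hcyc⟩)
    rw [← Submodule.Quotient.mk_smul, Submodule.Quotient.mk_eq_zero] at hn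
    obtain ⟨u, hu, eu⟩ := hn
    replace eu : Y.d (i - 1 - 1) (i - 1) u = g ^ n • g ^ k • w := eu
    rw [smul_smul, ← pow_add] at eu
    obtain ⟨m, v, hv⟩ := exists_div (g ^ (n + k)) (⟨u, hu⟩ : gamma T (Y.X (i - 1 - 1)))
    have hv₀ : (g ^ (n + k)) ^ (m + 1) • (v : Y.X (i - 1 - 1)) = (g ^ (n + k)) ^ m • u := congrArg Subtype.val hv
    refine (Submodule.Quotient.mk_eq_zero _).2 ⟨w - Y.d (i - 1 - 1) (i - 1) v,
      mem_gamma_inter (n := (n + k) * (m + 1)) (sub_mem hw (map_mem_gamma _ v.2)) ?_, ?_⟩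
    · rw [pow_mul, smul_sub, ← map_smul, hv₀, map_smul, eu, ← mul_smul, ← pow_succ, sub_self]
    · show Y.d (i - 1) i (w - Y.d (i - 1 - 1) (i - 1) v) = z
      rw [map_sub, dd_zero, sub_zero]
      exact e
  · obtain ⟨n, hn⟩ := hg i hi x
    obtain ⟨⟨z, hz, hdz⟩, rfl⟩ := Submodule.Quotient.mk_surjective _ x
    rw [← Submodule.Quotient.mk_smul, Submodule.Quotient.mk_eq_zero] at hn
    obtain ⟨w, hw, e⟩ := hn
    replace e : Y.d (i - 1) i w = g ^ n • z := e
    obtain ⟨m, v, hv⟩ := exists_div (g ^ n) (⟨w, hw⟩ : gamma T (Y.X (i - 1)))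
    have hv₀ : (g ^ n) ^ (m + 1) • (v : Y.X (i - 1)) = (g ^ n) ^ m • w := congrArg Subtype.val hv
    have hz' : z - Y.d (i - 1) i v ∈ ZT Y (T ∩ {p : PrimeSpectrum A | g ∈ p.asIdeal}) i := by
      refine ⟨mem_gamma_inter (n := n * (m + 1)) (sub_mem hz (map_mem_gamma _ v.2)) ?_, ?_⟩
      · rw [pow_mul, smul_sub, ← map_smul, hv₀, map_smul, e, ← mul_smul, ← pow_succ, sub_self]
      · show Y.d i (i + 1) (z - Y.d (i - 1) i v) = 0
        rw [map_sub, show Y.d i (i + 1) z = 0 from hdz, dd_zero, sub_zero]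
    refine ⟨Submodule.Quotient.mk ⟨_, hz'⟩, ?_⟩
    rw [inclT_mk, Submodule.Quotient.eq]
    exact ⟨-(v : Y.X (i - 1)), neg_mem v.2, by
      show Y.d (i - 1) i (-(v : Y.X (i - 1))) = (z - Y.d (i - 1) i v) - z
      rw [map_neg, sub_sub_cancel_left]⟩

include hinj in
/-- Cutting the supports down to a closed subset carrying the classes. -/
theorem bijective_inclT_zeroLocus (J : Ideal A) (hJ : PrimeSpectrum.zeroLocus (J : Set A) ⊆ T)
    (hk : ∀ g ∈ J, ∀ j ≤ s, ∀ x : HYT Y T j, ∃ n : ℕ, g ^ n • x = 0) (hi : i ≤ s) :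
    Function.Bijective (inclT (Y := Y) (i := i) hJ) := by
  classical
  obtain ⟨G, hG⟩ := IsNoetherian.noetherian J
  have key : ∀ F : Finset A, F ⊆ G → ∀ j ≤ s,
      Function.Bijective (inclT (Y := Y) (i := j) (Set.inter_subset_left : T ∩ {p : PrimeSpectrum A | ∀ f ∈ F, f ∈ p.asIdeal} ⊆ T)) := by
    intro F
    induction F using Finset.induction_on with
    | empty =>
      intro _ j _
      exact bijective_inclT_of_subset _ fun p hp => ⟨hp, fun f hf => absurd hf (Finset.notMem_empty f)⟩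
    | @insert g F hgF ih =>
      intro hsub j hj
      have hF := ih (fun a ha => hsub (Finset.mem_insert_of_mem ha))
      let U : Set (PrimeSpectrum A) := T ∩ {p | ∀ f ∈ F, f ∈ p.asIdeal}
      have hgU : ∀ j ≤ s, ∀ x : HYT Y U j, ∃ n : ℕ, g ^ n • x = 0 := fun j hj x => by
        have hgJ : g ∈ J := hG ▸ Submodule.subset_span (hsub (Finset.mem_insert_self g F))
        obtain ⟨n, hn⟩ := hk g hgJ j hj (inclT Set.inter_subset_left x)
        exact ⟨n, (hF j hj).1 (by rw [map_smul, hn, map_zero])⟩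
      have h1 := bijective_inclT_inter (T := U) hinj g hgU hj
      have heq : U ∩ {p : PrimeSpectrum A | g ∈ p.asIdeal} = T ∩ {p : PrimeSpectrum A | ∀ f ∈ insert g F, f ∈ p.asIdeal} := by
        ext p
        simp only [U, Set.mem_inter_iff, Set.mem_setOf_eq, Finset.forall_mem_insert]
        tauto
      refine ⟨fun x y h => ?_, fun y => ?_⟩
      · have h' : inclT (Y := Y) (i := j) (Set.inter_subset_left : U ∩ _ ⊆ U) (inclT heq.ge x) =
            inclT (Set.inter_subset_left : U ∩ _ ⊆ U) (inclT heq.ge y) := (hF j hj).1 (by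
          rw [inclT_inclT, inclT_inclT, inclT_inclT, inclT_inclT]
          exact h)
        have := congrArg (inclT heq.le) (h1.1 h')
        rwa [inclT_inclT, inclT_inclT, inclT_self, inclT_self] at this
      · obtain ⟨x, rfl⟩ := (hF j hj).2 y
        obtain ⟨x, rfl⟩ := h1.2 x
        exact ⟨inclT heq.le x, by rw [inclT_inclT, inclT_inclT]⟩
  have hJ' : T ∩ {p : PrimeSpectrum A | ∀ f ∈ G, f ∈ p.asIdeal} = PrimeSpectrum.zeroLocus (J : Set A) := by
    refine le_antisymm (fun p hp => (PrimeSpectrum.mem_zeroLocus _ _).2 (hG ▸ Submodule.span_le.2 hp.2))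
      fun p hp => ⟨hJ hp, fun f hf => (PrimeSpectrum.mem_zeroLocus _ _).1 hp (hG ▸ Submodule.subset_span hf)⟩
  have h := key G subset_rfl i hi
  refine ⟨fun x y e => ?_, fun y => ?_⟩
  · have := congrArg (inclT hJ'.le) (h.1 (a₁ := inclT hJ'.ge x) (a₂ := inclT hJ'.ge y) (by
      rw [inclT_inclT, inclT_inclT]
      exact e))
    rwa [inclT_inclT, inclT_inclT, inclT_self, inclT_self] at this
  · obtain ⟨x, rfl⟩ := h.2 y
    exact ⟨inclT hJ'.le x, by rw [inclT_inclT]⟩

/-- Classes of a killed cohomology are carried by the smaller support. -/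
theorem exists_pow_smul_eq_zero {Q : Ideal A} (hk : ∀ a ∈ Q, KillT Y a T i) {g : A}
    (hg : ∀ p ∈ T, Q ≤ p.asIdeal → g ∈ p.asIdeal) (x : HYT Y T i) : ∃ n : ℕ, g ^ n • x = 0 := by
  obtain ⟨z, rfl⟩ := Submodule.Quotient.mk_surjective _ x
  have hmem : g ∈ (Q ⊔ annElt (A := A) (z : Y.X i)).radical := by
    rw [Ideal.radical_eq_sInf, Ideal.mem_sInf]
    rintro P ⟨hle, hP⟩
    have h1 : annElt (A := A) (z : Y.X i) ≤ P := le_sup_right.trans hle
    have h2 : Q ≤ P := le_sup_left.trans hle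
    exact hg ⟨P, hP⟩ (zeroLocus_annElt_subset z.2.1 ((PrimeSpectrum.mem_zeroLocus _ _).2 h1)) h2
  obtain ⟨n, hn⟩ := hmem
  obtain ⟨a, ha, b, hb, hab⟩ := Submodule.mem_sup.1 hn
  refine ⟨n, ?_⟩
  rw [← hab, add_smul, (killT_iff a).1 (hk a ha) _, zero_add, ← Submodule.Quotient.mk_smul,
    show b • z = 0 from Subtype.ext (mem_annElt.1 hb), Submodule.Quotient.mk_zero]

section Hmap

variable {M : Type u} [AddCommGroup M] [Module A M]

/-- The cohomology with supports in a closed subset. -/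
def eH (S : InjRep (Dual.inD A M)) (I : Ideal A) (n : ℕ) :
    LocCoh.H I n M ≃ₗ[A] HYT S.E (PrimeSpectrum.zeroLocus (I : Set A)) n :=
  (exists_H_equiv' S I n).choose

theorem eH_HmapOfLE (S : InjRep (Dual.inD A M)) {I I' : Ideal A} (h : I ≤ I') (n : ℕ)
    (hZ : PrimeSpectrum.zeroLocus (I' : Set A) ⊆ PrimeSpectrum.zeroLocus (I : Set A)) (x : LocCoh.H I' n M) :
    eH S I n (((Dual2.HmapOfLE h n).app (ModuleCat.of A M)).hom x) = inclT hZ (eH S I' n x) := by
  obtain ⟨m, y, rfl⟩ := LocCohLib.exists_ι (I := I') (i := n) (M := ModuleCat.of A M) x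
  have hsub : ∀ J : Ideal A, PrimeSpectrum.zeroLocus ((J ^ m : Ideal A) : Set A) ⊆ PrimeSpectrum.zeroLocus (J : Set A) :=
    fun J p hp => (PrimeSpectrum.mem_zeroLocus _ _).2 (p.2.le_of_pow_le ((PrimeSpectrum.mem_zeroLocus _ _).1 hp))
  rw [LocCohLib.HmapOfLE_ι, eH, eH, (exists_H_equiv' S I n).choose_spec m (hsub I),
    (exists_H_equiv' S I' n).choose_spec m (hsub I'), Abelian.Ext.comp_hom, Abelian.Ext.mk₀_hom, ShiftedHom.mk₀_comp]
  obtain ⟨f, hf⟩ := S.toHK_surjective (n : ℤ) y.hom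
  have hle : I ^ m ≤ I' ^ m := Ideal.pow_right_mono h m
  show toHYT S (hsub I) (DualCxLib.pre _ _ (projQ hle) y.hom) = inclT hZ (toHYT S (hsub I') y.hom)
  rw [← hf, ← S.toHK_comp (n : ℤ) (projQ hle) f, toHYT_toHK, toHYT_toHK]
  rfl

theorem bijective_HmapOfLE (S : InjRep (Dual.inD A M)) {I I' : Ideal A} (h : I ≤ I') {n : ℕ} (hn : (n : ℤ) ≤ s)
    (hT : PrimeSpectrum.zeroLocus (I : Set A) ⊆ T)
    (hk : ∀ g ∈ I', ∀ j ≤ s, ∀ x : HYT S.E T j, ∃ k : ℕ, g ^ k • x = 0) :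
    Function.Bijective ((Dual2.HmapOfLE h n).app (ModuleCat.of A M)).hom := by
  have hZ : PrimeSpectrum.zeroLocus (I' : Set A) ⊆ PrimeSpectrum.zeroLocus (I : Set A) :=
    PrimeSpectrum.zeroLocus_anti_mono h
  have b := bijective_inclT_zeroLocus S.inj I hT (fun g hg => hk g (h hg)) hn
  have b' := bijective_inclT_zeroLocus S.inj I' (hZ.trans hT) hk hn
  refine ⟨fun x y e => ?_, fun y => ?_⟩
  · have e' := congrArg (fun z => inclT hT (eH S I n z)) e
    simp only [eH_HmapOfLE S h n hZ, inclT_inclT] at e'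
    exact (eH S I' n).injective (b'.1 e')
  · obtain ⟨x, hx⟩ := b'.2 (inclT hT (eH S I n y))
    obtain ⟨x, rfl⟩ := (eH S I' n).surjective x
    exact ⟨x, (eH S I n).injective (b.1 (by rw [eH_HmapOfLE S h n hZ, inclT_inclT]; exact hx))⟩

end Hmap

end Groth.Agent.FaltingsAnnLib
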