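import Groth.Agent.FaltingsAnnLib.Kill
import Groth.Agent.DualCxLib.InjRep
import Groth.Agent.DualCxLib.HDI
import Groth.Agent.LocCohLib.Colim

/-!
# Cohomology with supports as cohomology of `Γ_T` of an injective complex
-/

set_option autoImplicit false
set_option linter.style.haveILetI false
set_option backward.isDefEq.respectTransparency false
set_option maxRecDepth 4000

universe v u w

open CategoryTheory Limits Opposite
attribute [local instance] HasDerivedCategory.standard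

noncomputable section

namespace Groth.Agent.FaltingsAnnLib

open DualCxLib (HK InjRep)

variable {A : Type u} [CommRing A]

section Cohomology

variable (Y : DRing.Cx A) (T : Set (PrimeSpectrum A)) (i : ℤ)

/-- Cocycles supported in `T`. -/
abbrev ZT : Submodule A (Y.X i) := gamma T (Y.X i) ⊓ LinearMap.ker (Y.d i (i + 1)).hom

/-- Coboundaries of elements supported in `T`. -/
abbrev BT : Submodule A (ZT Y T i) :=
  ((gamma T (Y.X (i - 1))).map (Y.d (i - 1) i).hom).comap (ZT Y T i).subtype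

/-- Cohomology of the part of `Y` supported in `T`. -/
abbrev HYT : Type u := ZT Y T i ⧸ BT Y T i

variable {Y T i}

theorem killT_iff (a : A) : KillT Y a T i ↔ ∀ x : HYT Y T i, a • x = 0 := by
  refine ⟨fun h x => ?_, fun h y hy hd => ?_⟩
  · obtain ⟨⟨y, hy, hd⟩, rfl⟩ := Submodule.Quotient.mk_surjective _ x
    rw [← Submodule.Quotient.mk_smul, Submodule.Quotient.mk_eq_zero]
    obtain ⟨w, hw, e⟩ := h y hy hd
    exact ⟨w, hw, e⟩
  · have h' := h (Submodule.Quotient.mk ⟨y, hy, hd⟩)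
    rw [← Submodule.Quotient.mk_smul, Submodule.Quotient.mk_eq_zero] at h'
    obtain ⟨w, hw, e⟩ := h'
    exact ⟨w, hw, e⟩

end Cohomology

variable {K : Dual.D A} (S : InjRep K) {T : Set (PrimeSpectrum A)} {i : ℤ} {D : Ideal A}

theorem apply_one_mem_gamma (hD : PrimeSpectrum.zeroLocus (D : Set A) ⊆ T) {M : Type u} [AddCommGroup M]
    [Module A M] (f : (A ⧸ D) →ₗ[A] M) : f 1 ∈ gamma T M :=
  mem_gamma_of_smul D hD fun a ha => by
    rw [← map_smul, show a • (1 : A ⧸ D) = 0 by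
      rw [Algebra.smul_def, mul_one]
      exact Ideal.Quotient.eq_zero_iff_mem.2 ha, map_zero]

/-- Evaluation of a cocycle at one. -/
def evOne (hD : PrimeSpectrum.zeroLocus (D : Set A) ⊆ T) : S.Z (A ⧸ D) i →ₗ[A] ZT S.E T i where
  toFun f := ⟨f.1 1, apply_one_mem_gamma hD f.1, (S.mem_Z f.1).1 f.2 1⟩
  map_add' _ _ := rfl
  map_smul' _ _ := rfl

theorem ker_le_evOne (hD : PrimeSpectrum.zeroLocus (D : Set A) ⊆ T) :
    S.B (A ⧸ D) i ≤ LinearMap.ker ((BT S.E T i).mkQ ∘ₗ evOne S hD) := by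
  rintro f ⟨g, hg⟩
  exact (Submodule.Quotient.mk_eq_zero _).2 ⟨g 1, apply_one_mem_gamma hD g, LinearMap.congr_fun hg 1⟩

/-- `Hom(A/D, K[i]) → H^i Γ_T`. -/
def toHYT (hD : PrimeSpectrum.zeroLocus (D : Set A) ⊆ T) : HK K i (A ⧸ D) →ₗ[A] HYT S.E T i :=
  (S.B (A ⧸ D) i).liftQ _ (ker_le_evOne S hD) ∘ₗ (S.equivHK (A ⧸ D) i).symm.toLinearMap

theorem toHYT_toHK (hD : PrimeSpectrum.zeroLocus (D : Set A) ⊆ T) (f : S.Z (A ⧸ D) i) :
    toHYT S hD (S.toHK i f) = Submodule.Quotient.mk (evOne S hD f) := by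
  rw [toHYT, LinearMap.comp_apply, LinearEquiv.coe_coe, ← S.equivHK_mk, LinearEquiv.symm_apply_apply]
  rfl

/-- The projection between two quotients of `A`. -/
abbrev projQ {D D' : Ideal A} (h : D' ≤ D) : (A ⧸ D') →ₗ[A] (A ⧸ D) :=
  Submodule.mapQ D' D LinearMap.id h

theorem toHYT_pre {D' : Ideal A} (hD : PrimeSpectrum.zeroLocus (D : Set A) ⊆ T)
    (hD' : PrimeSpectrum.zeroLocus (D' : Set A) ⊆ T) (h : D' ≤ D) (x : HK K i (A ⧸ D)) :
    toHYT S hD' (DualCxLib.pre K i (projQ h) x) = toHYT S hD x := by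
  obtain ⟨f, rfl⟩ := S.toHK_surjective i x
  rw [← S.toHK_comp i (projQ h) f, toHYT_toHK, toHYT_toHK]
  rfl

variable {J : Type v} [Category J] [IsFiltered J] {F : J ⥤ ModuleCat.{w} A}
  [PreservesColimit F (forget (ModuleCat.{w} A))] {c : Cocone F}

include S in
/-- The colimit of `Hom(A/D_j, K[i])` is the cohomology of `Γ_T`, compatibly. -/
theorem exists_colimit_equiv' (hc : IsColimit c) (D : J → Ideal A)
    (hD : ∀ j, PrimeSpectrum.zeroLocus (D j : Set A) ⊆ T) (hle : ∀ ⦃j k : J⦄, (j ⟶ k) → D k ≤ D j)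
    (e : ∀ j, F.obj j ≃ₗ[A] HK K i (A ⧸ D j))
    (he : ∀ ⦃j k : J⦄ (φ : j ⟶ k) (x : F.obj j), e k ((F.map φ).hom x) = DualCxLib.pre K i (projQ (hle φ)) (e j x))
    (hcof : ∀ (p : ℤ) (y : S.E.X p), y ∈ gamma T (S.E.X p) → ∃ j, ∀ a ∈ D j, a • y = 0) :
    ∃ Φ : c.pt ≃ₗ[A] HYT S.E T i, ∀ j x, Φ ((c.ι.app j).hom x) = toHYT S (hD j) (e j x) := by
  let g : ∀ j, F.obj j →ₗ[A] HYT S.E T i := fun j => toHYT S (hD j) ∘ₗ (e j).toLinearMap
  have hg : ∀ ⦃j k : J⦄ (φ : j ⟶ k) (x : F.obj j), g k ((F.map φ).hom x) = g j x := fun j k φ x =>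
    (congrArg (toHYT S (hD k)) (he φ x)).trans (toHYT_pre S (hD j) (hD k) (hle φ) _)
  choose jr xr hr using fun x : c.pt => Concrete.isColimit_exists_rep F hc x
  let ψ : c.pt → HYT S.E T i := fun x => g (jr x) (xr x)
  have hψ : ∀ j (x : F.obj j), ψ ((c.ι.app j).hom x) = g j x := fun j x => by
    obtain ⟨k, f₁, f₂, hk⟩ := Concrete.isColimit_exists_of_rep_eq F hc (xr _) x (hr ((c.ι.app j).hom x))
    exact (hg f₁ _).symm.trans ((congrArg (g k) hk).trans (hg f₂ x))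
  have hadd : ∀ x y, ψ (x + y) = ψ x + ψ y := fun x y => by
    have e₁ := hr x
    have e₂ := hr y
    obtain ⟨l, f₁, f₂, -⟩ : ∃ (l : J) (f₁ : jr x ⟶ l) (_ : jr y ⟶ l), True :=
      ⟨_, IsFiltered.leftToMax _ _, IsFiltered.rightToMax _ _, trivial⟩
    have h₁ : (c.ι.app l).hom ((F.map f₁).hom (xr x)) = x :=
      (congr($(c.w f₁).hom (xr x))).trans e₁
    have h₂ : (c.ι.app l).hom ((F.map f₂).hom (xr y)) = y :=
      (congr($(c.w f₂).hom (xr y))).trans e₂
    conv_lhs => rw [← h₁, ← h₂]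
    refine (congrArg ψ ((c.ι.app l).hom.map_add _ _).symm).trans ((hψ l _).trans ?_)
    rw [map_add, hg, hg]
  have hsmul : ∀ (a : A) x, ψ (a • x) = a • ψ x := fun a x => by
    conv_lhs => rw [← hr x]
    change ψ (a • (c.ι.app (jr x)).hom (xr x)) = _
    rw [← map_smul, hψ, map_smul]
  let Ψ : c.pt →ₗ[A] HYT S.E T i := ⟨⟨ψ, hadd⟩, hsmul⟩
  refine ⟨LinearEquiv.ofBijective Ψ ⟨(injective_iff_map_eq_zero _).2 fun x hx => ?_, fun y => ?_⟩, hψ⟩
  · obtain ⟨j, x, rfl⟩ := Concrete.isColimit_exists_rep F hc x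
    replace hx : g j x = 0 := (hψ j x).symm.trans hx
    obtain ⟨f, hf⟩ := S.toHK_surjective i (e j x)
    rw [show g j x = toHYT S (hD j) (e j x) from rfl, ← hf, toHYT_toHK, Submodule.Quotient.mk_eq_zero] at hx
    obtain ⟨w, hw, hdw⟩ := hx
    obtain ⟨k₀, hk₀⟩ := hcof _ w hw
    let k := IsFiltered.max j k₀
    let φ : j ⟶ k := IsFiltered.leftToMax j k₀
    have hzero : e k ((F.map φ).hom x) = 0 := by
      rw [he φ, ← hf, ← S.toHK_comp i (projQ (hle φ)) f]
      refine (S.toHK_eq_zero_iff i _).2 ⟨(D k).liftQ (LinearMap.toSpanSingleton A _ w)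
        fun a ha => hk₀ a (hle (IsFiltered.rightToMax j k₀) ha), fun z => ?_⟩
      obtain ⟨z, rfl⟩ := Submodule.Quotient.mk_surjective _ z
      show (S.E.d (i - 1) i).hom (z • w) = f.1 (Submodule.Quotient.mk z)
      rw [map_smul, show (Submodule.Quotient.mk z : A ⧸ D j) = z • (1 : A ⧸ D j) by
        rw [Algebra.smul_def, mul_one]; rfl, map_smul]
      exact congrArg (z • ·) hdw
    rw [LinearEquiv.map_eq_zero_iff] at hzero
    refine (congr($(c.w φ).hom x)).symm.trans ?_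
    show (c.ι.app k).hom ((F.map φ).hom x) = 0
    rw [hzero, map_zero]
  · obtain ⟨⟨y, hy, hdy⟩, rfl⟩ := Submodule.Quotient.mk_surjective _ y
    obtain ⟨j, hj⟩ := hcof _ y hy
    let f : (A ⧸ D j) →ₗ[A] S.E.X i := (D j).liftQ (LinearMap.toSpanSingleton A _ y) hj
    have hf : f ∈ S.Z (A ⧸ D j) i := (S.mem_Z _).2 fun z => by
      obtain ⟨z, rfl⟩ := Submodule.Quotient.mk_surjective _ z
      show (S.E.d i (i + 1)).hom (z • y) = 0
      rw [map_smul]
      exact (congrArg (z • ·) hdy).trans (smul_zero z)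
    refine ⟨(c.ι.app j).hom ((e j).symm (S.toHK i ⟨f, hf⟩)), (hψ j _).trans ?_⟩
    show toHYT S (hD j) (e j _) = _
    rw [LinearEquiv.apply_symm_apply, toHYT_toHK]
    exact congrArg Submodule.Quotient.mk (Subtype.ext (one_smul A y))

include S in
/-- The colimit of `Hom(A/D_j, K[i])` is the cohomology of `Γ_T`. -/
theorem exists_colimit_equiv (hc : IsColimit c) (D : J → Ideal A)
    (hD : ∀ j, PrimeSpectrum.zeroLocus (D j : Set A) ⊆ T) (hle : ∀ ⦃j k : J⦄, (j ⟶ k) → D k ≤ D j)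
    (e : ∀ j, F.obj j ≃ₗ[A] HK K i (A ⧸ D j))
    (he : ∀ ⦃j k : J⦄ (φ : j ⟶ k) (x : F.obj j), e k ((F.map φ).hom x) = DualCxLib.pre K i (projQ (hle φ)) (e j x))
    (hcof : ∀ (p : ℤ) (y : S.E.X p), y ∈ gamma T (S.E.X p) → ∃ j, ∀ a ∈ D j, a • y = 0) :
    Nonempty (c.pt ≃ₗ[A] HYT S.E T i) :=
  (exists_colimit_equiv' S hc D hD hle e he hcof).elim fun Φ _ => ⟨Φ⟩

section Supports

/-- The ideals with zero locus in `T` are cofiltered. -/
theorem isFiltered_idealsIn (T : Set (PrimeSpectrum A)) : IsFiltered (Dual2.IdealsIn T)ᵒᵖ where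
  nonempty := ⟨op ⟨⊤, by simp⟩⟩
  cocone_objs X Y := ⟨op ⟨X.unop.1 * Y.unop.1, fun p hp => by
      rcases p.2.mul_le.1 ((PrimeSpectrum.mem_zeroLocus _ _).1 hp) with h | h
      · exact X.unop.2 ((PrimeSpectrum.mem_zeroLocus _ _).2 h)
      · exact Y.unop.2 ((PrimeSpectrum.mem_zeroLocus _ _).2 h)⟩,
    (ObjectProperty.homMk (homOfLE Ideal.mul_le_left)).op,
    (ObjectProperty.homMk (homOfLE Ideal.mul_le_right)).op, trivial⟩
  cocone_maps X Y f g := ⟨Y, 𝟙 _, by
    rw [show f = g from Quiver.Hom.unop_inj (ObjectProperty.hom_ext _ (Subsingleton.elim _ _))]⟩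

/-- `H^i_T(K)` for complexes. -/
theorem exists_HDT_equiv (i : ℤ) : Nonempty (Dual2.HDT A T K i ≃ₗ[A] HYT S.E T i) := by
  haveI := isFiltered_idealsIn (A := A) T
  haveI : PreservesColimitsOfShape (Dual2.IdealsIn T)ᵒᵖ (forget (ModuleCat.{u + 1} A)) := by
    haveI : PreservesFilteredColimitsOfSize.{u, u} (forget AddCommGrpCat.{u + 1}) :=
      preservesFilteredColimitsOfSize_of_univLE.{u + 1, u + 1} _
    exact comp_preservesColimitsOfShape (forget₂ (ModuleCat.{u + 1} A) AddCommGrpCat.{u + 1})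
      (forget AddCommGrpCat.{u + 1})
  exact exists_colimit_equiv S (colimit.isColimit _) (fun j => j.unop.1) (fun j => j.unop.2)
    (fun j k φ => leOfHom φ.unop.hom) (fun j => LinearEquiv.refl A _) (fun j k φ x => rfl)
    fun p y hy => ⟨op ⟨annElt y, zeroLocus_annElt_subset hy⟩, fun a ha => mem_annElt.1 ha⟩

variable [IsNoetherianRing A]

/-- `H^i_I(K)` for complexes. -/
theorem exists_HDI_equiv (I : Ideal A) (i : ℤ) :
    Nonempty (Dual2.HDI A I K i ≃ₗ[A] HYT S.E (PrimeSpectrum.zeroLocus (I : Set A)) i) :=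
  exists_colimit_equiv S (colimit.isColimit (DualCxLib.hdiDiagram I K i)) (fun j => I ^ j.unop.unop)
    (fun j p hp => (PrimeSpectrum.mem_zeroLocus _ _).2 (p.2.le_of_pow_le ((PrimeSpectrum.mem_zeroLocus _ _).1 hp)))
    (fun j k φ => Ideal.pow_le_pow_right (leOfHom φ.unop.unop)) (fun j => LinearEquiv.refl A _)
    (fun j k φ x => rfl) fun p y hy =>
      let ⟨n, hn⟩ := (mem_torsionSub_iff_gamma I y).2 hy
      ⟨op (op n), hn⟩

end Supports

section Module

variable {M : Type u} [AddCommGroup M] [Module A M]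

/-- `H^n_T(M)` for modules. -/
theorem exists_HT_equiv (S : InjRep (Dual.inD A M)) (n : ℕ) :
    Nonempty (Dual2.HT T n M ≃ₗ[A] HYT S.E T n) := by
  haveI := isFiltered_idealsIn (A := A) T
  let G := localCohomology.diagram (Dual2.idealsInDiagram T) n
  let F := G ⋙ (evaluation (ModuleCat.{u} A) (ModuleCat.{u} A)).obj (ModuleCat.of A M)
  haveI : PreservesColimitsOfShape (Dual2.IdealsIn T)ᵒᵖ (forget (ModuleCat.{u} A)) :=
    PreservesFilteredColimitsOfSize.preserves_filtered_colimits _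
  let eJ : ∀ D : Ideal A, LocCohLib.OldE (ModuleCat.of A (A ⧸ D)) (ModuleCat.of A M) n ≃ₗ[A]
      HK (Dual.inD A M) (n : ℤ) (A ⧸ D) := fun D =>
    (LocCohLib.extComp (ModuleCat.of A (A ⧸ D)) (ModuleCat.of A M) n).trans (Abelian.Ext.homLinearEquiv (R := A))
  obtain ⟨e⟩ := exists_colimit_equiv (T := T) (F := F) S (colimit.isColimit F) (fun j => j.unop.1)
    (fun j => j.unop.2) (fun j k φ => leOfHom φ.unop.hom) (fun j => eJ j.unop.1) (fun j k φ x => by
      show (LocCohLib.extComp _ _ n (((_root_.Ext A (ModuleCat.{u} A) n).map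
          (ModuleCat.ofHom (projQ (leOfHom φ.unop.hom))).op).app (ModuleCat.of A M) x)).hom =
        DualCxLib.pre _ _ _ (LocCohLib.extComp _ _ n x).hom
      refine (congrArg Abelian.Ext.hom (LocCohLib.extComp_map_left _ _ n x)).trans ?_
      rw [Abelian.Ext.comp_hom, Abelian.Ext.mk₀_hom, ShiftedHom.mk₀_comp]
      rfl)
    fun p y hy => ⟨op ⟨annElt y, zeroLocus_annElt_subset hy⟩, fun a ha => mem_annElt.1 ha⟩
  exact ⟨(colimitObjIsoColimitCompEvaluation G (ModuleCat.of A M)).toLinearEquiv.trans e⟩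

variable [IsNoetherianRing A]

/-- `H^n_I(M)` for modules, compatibly with the structure maps. -/
theorem exists_H_equiv' (S : InjRep (Dual.inD A M)) (I : Ideal A) (n : ℕ) :
    ∃ Φ : LocCoh.H I n M ≃ₗ[A] HYT S.E (PrimeSpectrum.zeroLocus (I : Set A)) n,
      ∀ (m : ℕ) (h : PrimeSpectrum.zeroLocus ((I ^ m : Ideal A) : Set A) ⊆ PrimeSpectrum.zeroLocus (I : Set A))
        (x : Abelian.Ext.{u} (LocCohLib.quot I m) (ModuleCat.of A M) n),
        Φ (LocCohLib.ι I n (ModuleCat.of A M) m x) = toHYT S h x.hom := by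
  let G := localCohomology.diagram (localCohomology.idealPowersDiagram I) n
  let F := G ⋙ (evaluation (ModuleCat.{u} A) (ModuleCat.{u} A)).obj (ModuleCat.of A M)
  haveI : PreservesColimitsOfShape ℕᵒᵖᵒᵖ (forget (ModuleCat.{u} A)) :=
    PreservesFilteredColimitsOfSize.preserves_filtered_colimits _
  let eJ : ∀ D : Ideal A, LocCohLib.OldE (ModuleCat.of A (A ⧸ D)) (ModuleCat.of A M) n ≃ₗ[A]
      HK (Dual.inD A M) (n : ℤ) (A ⧸ D) := fun D =>
    (LocCohLib.extComp (ModuleCat.of A (A ⧸ D)) (ModuleCat.of A M) n).trans (Abelian.Ext.homLinearEquiv (R := A))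
  obtain ⟨e, he⟩ := exists_colimit_equiv' (T := PrimeSpectrum.zeroLocus (I : Set A)) (F := F) S (colimit.isColimit F)
    (fun j => I ^ j.unop.unop)
    (fun j p hp => (PrimeSpectrum.mem_zeroLocus _ _).2 (p.2.le_of_pow_le ((PrimeSpectrum.mem_zeroLocus _ _).1 hp)))
    (fun j k φ => Ideal.pow_le_pow_right (leOfHom φ.unop.unop)) (fun j => eJ (I ^ j.unop.unop)) (fun j k φ x => by
      show (LocCohLib.extComp _ _ n (((_root_.Ext A (ModuleCat.{u} A) n).map
          (ModuleCat.ofHom (projQ (Ideal.pow_le_pow_right (leOfHom φ.unop.unop)))).op).app (ModuleCat.of A M) x)).hom =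
        DualCxLib.pre _ _ _ (LocCohLib.extComp _ _ n x).hom
      refine (congrArg Abelian.Ext.hom (LocCohLib.extComp_map_left _ _ n x)).trans ?_
      rw [Abelian.Ext.comp_hom, Abelian.Ext.mk₀_hom, ShiftedHom.mk₀_comp]
      rfl)
    fun p y hy => let ⟨m, hm⟩ := (mem_torsionSub_iff_gamma I y).2 hy; ⟨op (op m), hm⟩
  refine ⟨(colimitObjIsoColimitCompEvaluation G (ModuleCat.of A M)).toLinearEquiv.trans e, fun m h x => ?_⟩
  obtain ⟨y, rfl⟩ := (LocCohLib.extComp (LocCohLib.quot I m) (ModuleCat.of A M) n).surjective x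
  rw [LocCohLib.ι_extComp]
  exact (congrArg e (congr($(colimitObjIsoColimitCompEvaluation_ι_app_hom G (op (op m)) (ModuleCat.of A M)) y))).trans
    (he (op (op m)) y)

/-- `H^n_I(M)` for modules. -/
theorem exists_H_equiv (S : InjRep (Dual.inD A M)) (I : Ideal A) (n : ℕ) :
    Nonempty (LocCoh.H I n M ≃ₗ[A] HYT S.E (PrimeSpectrum.zeroLocus (I : Set A)) n) :=
  (exists_H_equiv' S I n).elim fun Φ _ => ⟨Φ⟩

end Module

end Groth.Agent.FaltingsAnnLib
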